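import Cfsg.Agent.BaseThree.Defs

/-!
# Distinguishing colourings of solvable permutation groups with five colours
-/

set_option autoImplicit false
set_option linter.style.haveILetI false

namespace CfsgLib.BaseThree

open Equiv Subgroup CfsgLib.RegOrbit

universe w

/-- Some colouring with five colours is preserved only by the identity. -/
def ColourBase {Ω : Type w} (G : Subgroup (Perm Ω)) : Prop :=
  ∃ c : Ω → Fin 5, ∀ g ∈ G, (∀ x, c (g x) = c x) → g = 1

/-- Five inequivalent distinguishing colourings from one. -/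
theorem exists_five_colourings {F : Type w} [Finite F] (x₀ : F) {H : Subgroup (Perm F)}
    (hsol : Group.IsSolvable H) (h : ColourBase H) :
    ∃ S : Fin 5 → F → Fin 5, (∀ k l, ∀ g ∈ H, (∀ x, S k (g x) = S l x) → k = l) ∧
      ∀ k, ∀ g ∈ H, (∀ x, S k (g x) = S k x) → g = 1 := by
  classical
  obtain ⟨c, hc⟩ := h
  let P : Subgroup (H × Perm (Fin 5)) :=
    { carrier := {p | ∀ x, c ((p.1 : Perm F) x) = p.2 (c x)}
      one_mem' := fun x => rfl
      mul_mem' := fun {p r} hp hr x => by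
        show c ((p.1 : Perm F) ((r.1 : Perm F) x)) = p.2 (r.2 (c x))
        rw [hp, hr]
      inv_mem' := fun {p} hp x => by
        show c ((p.1 : Perm F)⁻¹ x) = p.2⁻¹ (c x)
        rw [eq_comm, Perm.inv_eq_iff_eq, ← hp]
        exact (congrArg c (perm_apply_inv _ _)).symm }
  haveI := hsol
  -- the kernel of the projection fixes a colour
  haveI : Group.IsSolvable (MulAction.stabilizer (Perm (Fin 5)) (c x₀)) := by
    haveI : Group.IsSolvable (Perm {k : Fin 5 // k ≠ c x₀}) :=
      Inv54.isSolvable_perm_of_card_le_four (by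
        rw [Nat.card_eq_fintype_card, Fintype.card_subtype_compl, Fintype.card_fin,
          Fintype.card_subtype_eq])
    let ρ : MulAction.stabilizer (Perm (Fin 5)) (c x₀) →* Perm {k : Fin 5 // k ≠ c x₀} :=
      { toFun := fun s => (s : Perm (Fin 5)).subtypePerm (fun k => by
          rw [not_iff_not]
          refine ⟨fun hk => (s : Perm (Fin 5)).injective ?_, fun hk => by rw [hk]; exact s.2⟩
          rw [hk]; exact (s.2).symm)
        map_one' := Equiv.ext fun k => Subtype.ext rfl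
        map_mul' := fun s t => Equiv.ext fun k => Subtype.ext rfl }
    refine Group.isSolvable_of_isSolvable_injective (f := ρ) fun s t hst =>
      Subtype.ext (Equiv.ext fun k => ?_)
    by_cases hk : k = c x₀
    · subst hk; exact s.2.trans t.2.symm
    · exact congrArg Subtype.val (DFunLike.congr_fun hst ⟨k, hk⟩)
  have hP : Group.IsSolvable P := by
    let fst : P →* H := (MonoidHom.fst _ _).comp P.subtype
    let snd : fst.ker →* MulAction.stabilizer (Perm (Fin 5)) (c x₀) :=
      ((MonoidHom.snd _ _).comp (P.subtype.comp fst.ker.subtype)).codRestrict _ fun p => by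
        have h1 := p.1.2 x₀
        have h2 : (p.1 : H × Perm (Fin 5)).1 = 1 := p.2
        rw [h2] at h1
        exact h1.symm
    have hsnd : Function.Injective snd := fun p r hpr => Subtype.ext (Subtype.ext
      (Prod.ext ((show (p.1 : H × Perm (Fin 5)).1 = 1 from p.2).trans
        (show (r.1 : H × Perm (Fin 5)).1 = 1 from r.2).symm) (congrArg Subtype.val hpr)))
    haveI : Group.IsSolvable fst.ker := Group.isSolvable_of_isSolvable_injective hsnd
    exact Group.isSolvable_of_ker_le_range fst.ker.subtype fst (by rw [Subgroup.range_subtype])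
  let S : Subgroup (Perm (Fin 5)) := P.map (MonoidHom.snd _ _)
  haveI := hP
  have hS : Group.IsSolvable S :=
    Group.isSolvable_of_surjective ((MonoidHom.snd _ _).subgroupMap_surjective P)
  obtain ⟨f, hf⟩ := exists_five Equiv.Perm.not_isSolvable_fin_5 S hS
  refine ⟨fun k x => f k (c x), fun k l g hg hkl => hf k l ⟨(⟨g, hg⟩, (f k)⁻¹ * f l), fun x => ?_,
    rfl⟩, fun k g hg hk => hc g hg fun x => (f k).injective (hk x)⟩
  show c (g x) = ((f k)⁻¹ * f l) (c x)
  rw [Perm.mul_apply, eq_comm, Perm.inv_eq_iff_eq]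
  exact (hkl x).symm

/-- Colouring along an equivariant map. -/
theorem colourBase_of_map {Ω B : Type w} [Finite Ω] [Finite B] {G : Subgroup (Perm Ω)}
    (π : Ω → B) (τ : G →* Perm B) (hτ : ∀ (g : G) x, π ((g : Perm Ω) x) = τ g (π x))
    (hB : ColourBase τ.range)
    (hF : ∀ b : B, ∃ S : Fin 5 → Ω → Fin 5,
      (∀ k l, ∀ g : G, τ g b = b → (∀ x, π x = b → S k ((g : Perm Ω) x) = S l x) → k = l) ∧
      ∀ k, ∀ g : G, τ g b = b → (∀ x, π x = b → S k ((g : Perm Ω) x) = S k x) →
        ∀ x, π x = b → (g : Perm Ω) x = x) :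
    ColourBase G := by
  classical
  obtain ⟨T, hT⟩ := hB
  choose S hS1 hS2 using hF
  let rel : Setoid B :=
    { r := fun b c => ∃ g : G, τ g b = c
      iseqv := ⟨fun b => ⟨1, by rw [map_one]; rfl⟩, fun {b c} => fun ⟨g, hg⟩ =>
        ⟨g⁻¹, by rw [map_inv, ← hg]; exact perm_inv_apply _ _⟩,
        fun {b c d} => fun ⟨g, hg⟩ ⟨h, hh⟩ => ⟨h * g, by rw [map_mul, Perm.mul_apply, hg, hh]⟩⟩ }
  let r : B → B := fun b => (Quotient.mk rel b).out
  have hr : ∀ b, ∃ g : G, τ g (r b) = b := fun b => Quotient.mk_out (s := rel) b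
  choose t ht using hr
  refine ⟨fun x => S (r (π x)) (T (π x)) ((t (π x) : Perm Ω)⁻¹ x), fun g hg hgS => ?_⟩
  set γ : G := ⟨g, hg⟩ with hγ
  have hrr : ∀ b, r (τ γ b) = r b := fun b => congrArg Quotient.out (Quotient.sound ⟨γ⁻¹, by
    rw [map_inv]; exact perm_inv_apply _ _⟩)
  have hstab : ∀ b, τ ((t (τ γ b))⁻¹ * γ * t b) (r b) = r b := fun b => by
    rw [map_mul, map_mul, Perm.mul_apply, Perm.mul_apply, ht b, map_inv,
      Perm.inv_eq_iff_eq, ← hrr b, ht]
  have hcol : ∀ b x, π x = r b →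
      S (r b) (T (τ γ b)) ((((t (τ γ b))⁻¹ * γ * t b : G) : Perm Ω) x) = S (r b) (T b) x := by
    intro b x hx
    have h1 := hgS ((t b : Perm Ω) x)
    have hπ1 : π ((t b : Perm Ω) x) = b := by rw [hτ, hx, ht]
    have hπ2 : π (g ((t b : Perm Ω) x)) = τ γ b := by rw [hτ γ, hπ1]
    simp only [hπ1, hπ2, hrr b, perm_inv_apply] at h1
    exact h1
  have hTfix : ∀ b, T (τ γ b) = T b := fun b => hS1 (r b) _ _ _ (hstab b) (hcol b)
  have hτ1 : τ γ = 1 := hT (τ γ) ⟨γ, rfl⟩ hTfix
  refine Equiv.ext fun y => ?_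
  set b := π y with hb
  have hb' : τ γ b = b := by rw [hτ1]; rfl
  have h1 := hstab b
  have h2 := hcol b
  rw [hb'] at h1 h2
  have h3 := hS2 (r b) (T b) _ h1 h2 ((t b : Perm Ω)⁻¹ y) (by
    rw [← Subgroup.coe_inv, hτ, map_inv, Perm.inv_eq_iff_eq, ht])
  rw [Subgroup.coe_mul, Subgroup.coe_mul, Subgroup.coe_inv, Perm.mul_apply, Perm.mul_apply,
    Perm.inv_eq_iff_eq, perm_apply_inv] at h3
  exact h3

/-- The affine case. -/
theorem colourBase_affine {Ω : Type w} [Finite Ω] [Nonempty Ω] {G : Subgroup (Perm Ω)} {M : ℕ}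
    (hlin : BaseBelow.{w} M) (hM : Nat.card Ω < M)
    (hsol : Group.IsSolvable G) (N : Subgroup G) [N.Normal] (hne : N ≠ ⊥)
    (hmin : ∀ K : Subgroup G, K.Normal → K ≤ N → K = ⊥ ∨ K = N)
    (htrans : ∀ x y : Ω, ∃ u ∈ N, ((u : G) : Perm Ω) x = y) : ColourBase G := by
  classical
  haveI := hsol
  have hab := Solvable.mul_comm_of_minimal_normal hne hmin
  obtain ⟨x₀⟩ := ‹Nonempty Ω›
  have hfree : ∀ u ∈ N, ∀ x : Ω, ((u : G) : Perm Ω) x = x → u = 1 := by
    intro u hu x hux
    refine Subtype.ext (Equiv.ext fun y => ?_)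
    obtain ⟨v, hv, hvx⟩ := htrans x y
    have h1 : ((u * v : G) : Perm Ω) x = ((v * u : G) : Perm Ω) x := by rw [hab u hu v hv]
    simp only [Subgroup.coe_mul, Perm.mul_apply, hux, hvx] at h1
    simpa using h1
  let e : N → Ω := fun u => ((u : G) : Perm Ω) x₀
  have he : Function.Bijective e := by
    refine ⟨fun u v huv => ?_, fun y => ?_⟩
    · have h1 : (((v : G)⁻¹ * u : G) : Perm Ω) x₀ = x₀ := by
        simp only [Subgroup.coe_mul, Subgroup.coe_inv, Perm.mul_apply]
        rw [show ((u : G) : Perm Ω) x₀ = ((v : G) : Perm Ω) x₀ from huv, perm_inv_apply]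
      exact Subtype.ext (inv_mul_eq_one.1
        (hfree _ (N.mul_mem (N.inv_mem v.2) u.2) x₀ h1)).symm
    · obtain ⟨u, hu, huy⟩ := htrans x₀ y
      exact ⟨⟨u, hu⟩, huy⟩
  letI : CommGroup N :=
    { (inferInstance : Group N) with mul_comm := fun a b => Subtype.ext (hab a a.2 b b.2) }
  let H : Subgroup G := MulAction.stabilizer G x₀
  have hmemH : ∀ h : G, h ∈ H ↔ (h : Perm Ω) x₀ = x₀ := fun h => Iff.rfl
  let φ : H →* MulAut N := (MulAut.conjNormal (H := N)).comp H.subtype
  have hφv : ∀ (h : H) (u : N), ((φ h u : N) : G) = (h : G) * u * (h : G)⁻¹ := fun h u => rfl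
  have heh : ∀ (h : H) (u : N), e (φ h u) = ((h : G) : Perm Ω) (e u) := by
    intro h u
    show (((φ h u : N) : G) : Perm Ω) x₀ = _
    rw [hφv, Subgroup.coe_mul, Subgroup.coe_mul, Subgroup.coe_inv, Perm.mul_apply, Perm.mul_apply,
      (Perm.inv_eq_iff_eq).2 ((hmemH h).1 h.2).symm]
  let ψ₀ : H →* AddMonoid.End (Additive N) :=
    { toFun := fun h => (MonoidHom.toAdditive (φ h).toMonoidHom : Additive N →+ Additive N)
      map_one' := AddMonoidHom.ext fun x => by
        show Additive.ofMul (φ 1 x.toMul) = x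
        rw [map_one]; rfl
      map_mul' := fun a b => AddMonoidHom.ext fun x => by
        show Additive.ofMul (φ (a * b) x.toMul) = Additive.ofMul (φ a (φ b x.toMul))
        rw [map_mul]; rfl }
  let ψ : H →* AutGp (Additive N) := ψ₀.toHomUnits
  have hψ : ∀ h (u : N), (ψ h : AddMonoid.End (Additive N)) (Additive.ofMul u) =
      Additive.ofMul (φ h u) := fun h u => rfl
  -- irreducibility
  have hirr : ∀ U : AddSubgroup (Additive N), Inv ψ.range U → U = ⊥ ∨ U = ⊤ := by
    intro U hU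
    set L : Subgroup N := AddSubgroup.toSubgroup' U with hL'
    have hLmem : ∀ u : N, u ∈ L ↔ Additive.ofMul u ∈ U := fun u => Iff.rfl
    have hLn : (L.map N.subtype).Normal := by
      refine ⟨fun z hz g => ?_⟩
      obtain ⟨u, hu, rfl⟩ := hz
      obtain ⟨v, hv, hvg⟩ := htrans x₀ ((g : Perm Ω) x₀)
      have hh : v⁻¹ * g ∈ H := by
        rw [hmemH, Subgroup.coe_mul, Subgroup.coe_inv, Perm.mul_apply, ← hvg, perm_inv_apply]
      refine ⟨φ ⟨_, hh⟩ u, (hLmem _).2 (hψ ⟨_, hh⟩ u ▸ hU _ ⟨_, rfl⟩ _ ((hLmem u).1 hu)), ?_⟩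
      show ((φ ⟨v⁻¹ * g, hh⟩ u : N) : G) = g * u * g⁻¹
      rw [hφv]
      have hc : v * (v⁻¹ * g * u * (v⁻¹ * g)⁻¹) = (v⁻¹ * g * u * (v⁻¹ * g)⁻¹) * v :=
        hab v hv _ (hφv ⟨_, hh⟩ u ▸ (φ ⟨_, hh⟩ u).2)
      calc v⁻¹ * g * u * (v⁻¹ * g)⁻¹ = v * (v⁻¹ * g * u * (v⁻¹ * g)⁻¹) * v⁻¹ := by
            rw [hc, mul_inv_cancel_right]
        _ = g * u * g⁻¹ := by group
    rcases hmin _ hLn (map_subtype_le L) with h1 | h1
    · have h2 : L = ⊥ := map_injective N.subtype_injective (h1.trans (Subgroup.map_bot _).symm)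
      refine Or.inl ((AddSubgroup.eq_bot_iff_forall _).2 fun x hx => ?_)
      have : x.toMul ∈ L := hx
      rw [h2, Subgroup.mem_bot] at this
      exact this
    · have h2 : L = ⊤ := map_injective N.subtype_injective (h1.trans (by
        rw [← MonoidHom.range_eq_map, range_subtype]))
      refine Or.inr (eq_top_iff.2 fun x _ => ?_)
      exact (hLmem x.toMul).1 (h2 ▸ Subgroup.mem_top _)
  have hcr : CR ψ.range := by
    intro U hU
    rcases hirr U hU with h | h
    · exact ⟨⊤, fun _ _ _ _ => AddSubgroup.mem_top _, by rw [h, bot_inf_eq], by rw [h, bot_sup_eq]⟩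
    · exact ⟨⊥, fun a _ u hu => by rw [AddSubgroup.mem_bot] at hu ⊢; rw [hu, map_zero],
        inf_bot_eq _, by rw [h, sup_bot_eq]⟩
  obtain ⟨a₁, a₂, a₃, hbase⟩ := hlin (Additive N) inferInstance inferInstance ψ.range
    (lt_of_eq_of_lt (Nat.card_eq_of_bijective e he) hM)
    (Group.isSolvable_of_surjective ψ.rangeRestrict_surjective) hcr
  let c : Ω → Fin 5 := fun x => if x = x₀ then 0 else if x = e a₁.toMul then 1
    else if x = e a₂.toMul then 2 else if x = e a₃.toMul then 3 else 4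
  refine ⟨c, fun g hg hgc => ?_⟩
  let pt : Fin 5 → Ω := ![x₀, e a₁.toMul, e a₂.toMul, e a₃.toMul, x₀]
  have hcpt : ∀ y, c y ≠ 4 → y = pt (c y) := by
    intro y hy
    by_cases h1 : y = x₀
    · simp only [c, if_pos h1]; exact h1
    by_cases h2 : y = e a₁.toMul
    · simp only [c, if_neg h1, if_pos h2]; exact h2
    by_cases h3 : y = e a₂.toMul
    · simp only [c, if_neg h1, if_neg h2, if_pos h3]; exact h3
    by_cases h4 : y = e a₃.toMul
    · simp only [c, if_neg h1, if_neg h2, if_neg h3, if_pos h4]; exact h4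
    exact absurd (by simp only [c, if_neg h1, if_neg h2, if_neg h3, if_neg h4]) hy
  have hfix' : ∀ z, c z ≠ 4 → g z = z := fun z hz => by
    rw [hcpt (g z) (by rw [hgc]; exact hz), hgc, ← hcpt z hz]
  have hne4 : ∀ z, (z = x₀ ∨ z = e a₁.toMul ∨ z = e a₂.toMul ∨ z = e a₃.toMul) → c z ≠ 4 := by
    intro z hz
    simp only [c]
    split_ifs with h1 h2 h3 h4
    any_goals decide
    tauto
  have h0 : g x₀ = x₀ := hfix' _ (hne4 _ (Or.inl rfl))
  have hfix : ∀ z : Ω, (z = e a₁.toMul ∨ z = e a₂.toMul ∨ z = e a₃.toMul) → g z = z :=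
    fun z hz => hfix' z (hne4 z (Or.inr hz))
  set h : H := ⟨⟨g, hg⟩, h0⟩ with hh
  have hψ1 : ψ h = 1 := by
    have key : ∀ a : Additive N, g (e a.toMul) = e a.toMul →
        (ψ h : AddMonoid.End (Additive N)) a = a := fun a ha => by
      have h1 : φ h a.toMul = a.toMul := he.1 ((heh h _).trans ha)
      exact (hψ h a.toMul).trans (congrArg Additive.ofMul h1)
    exact hbase _ ⟨h, rfl⟩ (key _ (hfix _ (Or.inl rfl))) (key _ (hfix _ (Or.inr (Or.inl rfl))))
      (key _ (hfix _ (Or.inr (Or.inr rfl))))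
  refine Equiv.ext fun y => ?_
  obtain ⟨u, rfl⟩ := he.2 y
  show ((h : G) : Perm Ω) (e u) = e u
  rw [← heh]
  congr 1
  exact congrArg Additive.toMul (DFunLike.congr_fun (congrArg Units.val hψ1) (Additive.ofMul u))

/-- A solvable permutation group has a distinguishing colouring with five colours. -/
theorem exists_colourBase {M : ℕ} (hlin : BaseBelow.{w} M) (n : ℕ) : n < M → ∀ (Ω : Type w)
    [Finite Ω], Nat.card Ω = n → ∀ G : Subgroup (Perm Ω), Group.IsSolvable G → ColourBase G := by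
  induction n using Nat.strong_induction_on with
  | _ n ih =>
  intro hnM Ω _ hn G hsol
  classical
  haveI := hsol
  by_cases hG : G = ⊥
  · exact ⟨fun _ => 0, fun g hg _ => mem_bot.1 (hG ▸ hg)⟩
  have step : ∀ N : Subgroup G, N.Normal → N ≠ ⊥ →
      ¬ (∀ x y : Ω, ∃ u ∈ N, ((u : G) : Perm Ω) x = y) → ColourBase G := by
    intro N hN hN1 hNt
    let rel : Setoid Ω :=
      { r := fun x y => ∃ u ∈ N, ((u : G) : Perm Ω) x = y
        iseqv := ⟨fun x => ⟨1, one_mem _, rfl⟩, fun {x y} => fun ⟨u, hu, h⟩ =>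
          ⟨u⁻¹, inv_mem hu, by rw [← h, Subgroup.coe_inv]; exact perm_inv_apply _ _⟩,
          fun {x y z} => fun ⟨u, hu, h⟩ ⟨v, hv, h'⟩ =>
            ⟨v * u, mul_mem hv hu, by rw [Subgroup.coe_mul, Perm.mul_apply, h, h']⟩⟩ }
    let π : Ω → Quotient rel := Quotient.mk rel
    have hmove : ∀ (g : G) x y, rel.r x y → rel.r ((g : Perm Ω) x) ((g : Perm Ω) y) := by
      rintro g x y ⟨u, hu, h⟩
      refine ⟨g * u * g⁻¹, hN.conj_mem u hu g, ?_⟩
      simp only [Subgroup.coe_mul, Subgroup.coe_inv, Perm.mul_apply, perm_inv_apply, h]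
    let τfun : G → Quotient rel → Quotient rel := fun g =>
      Quotient.map (g : Perm Ω) fun x y h => hmove g x y h
    have hτone : ∀ q, τfun 1 q = q := fun q => Quotient.inductionOn q fun x => rfl
    have hτmul : ∀ g h q, τfun (g * h) q = τfun g (τfun h q) := fun g h q =>
      Quotient.inductionOn q fun x => rfl
    let τ : G →* Perm (Quotient rel) :=
      { toFun := fun g => ⟨τfun g, τfun g⁻¹,
          fun q => by rw [← hτmul, inv_mul_cancel, hτone],
          fun q => by rw [← hτmul, mul_inv_cancel, hτone]⟩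
        map_one' := Equiv.ext hτone
        map_mul' := fun g h => Equiv.ext (hτmul g h) }
    have hπ : Function.Surjective π := Quotient.mk_surjective
    have hτ : ∀ (g : G) x, π ((g : Perm Ω) x) = τ g (π x) := fun g x => rfl
    obtain ⟨u, hu, hu1⟩ := N.bot_or_exists_ne_one.resolve_left hN1
    obtain ⟨x₁, hx₁⟩ : ∃ x, ((u : G) : Perm Ω) x ≠ x := by
      by_contra! h
      exact hu1 (Subtype.ext (Equiv.ext h))
    have hBlt : Nat.card (Quotient rel) < n := by
      rw [← hn]
      refine lt_of_le_of_ne (Nat.card_le_card_of_surjective π hπ) fun h => hx₁ ?_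
      have hinj : Function.Injective π :=
        ((Nat.bijective_iff_surjective_and_card π).2 ⟨hπ, h.symm⟩).1
      exact (hinj (Quotient.sound ⟨u, hu, rfl⟩ : π x₁ = π ((u : Perm Ω) x₁))).symm
    refine colourBase_of_map π τ hτ (ih _ hBlt (hBlt.trans hnM) (Quotient rel) rfl τ.range
        (Group.isSolvable_of_surjective τ.rangeRestrict_surjective)) fun b => ?_
    have hFlt : Nat.card {x // π x = b} < n := by
      rw [← hn]
      refine lt_of_le_of_ne (Finite.card_subtype_le _) fun h => hNt ?_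
      have hall : ∀ x, π x = b := by
        intro x
        have hs := ((Nat.bijective_iff_injective_and_card
          (Subtype.val : {x // π x = b} → Ω)).2 ⟨Subtype.val_injective, h⟩).2 x
        obtain ⟨y, rfl⟩ := hs
        exact y.2
      intro x y
      exact Quotient.exact ((hall x).trans (hall y).symm)
    let Gb : Subgroup G := (MulAction.stabilizer (Perm (Quotient rel)) b).comap τ
    have hGb : ∀ g : Gb, ∀ x, π x = b → π (((g : G) : Perm Ω) x) = b := fun g x hx => by
      rw [hτ, hx]; exact g.2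
    let ρ : Gb →* Perm {x // π x = b} :=
      { toFun := fun g =>
          { toFun := fun x => ⟨((g : G) : Perm Ω) x, hGb g x x.2⟩
            invFun := fun x => ⟨((g⁻¹ : Gb) : G).1 x, hGb g⁻¹ x x.2⟩
            left_inv := fun x => Subtype.ext (by simp)
            right_inv := fun x => Subtype.ext (by simp) }
        map_one' := Equiv.ext fun x => Subtype.ext rfl
        map_mul' := fun g h => Equiv.ext fun x => Subtype.ext rfl }
    have hρsol : Group.IsSolvable ρ.range :=
      Group.isSolvable_of_surjective ρ.rangeRestrict_surjective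
    obtain ⟨x₂, hx₂⟩ := hπ b
    obtain ⟨S, hS1, hS2⟩ := exists_five_colourings (⟨x₂, hx₂⟩ : {x // π x = b}) hρsol
      (ih _ hFlt (hFlt.trans hnM) {x // π x = b} rfl ρ.range hρsol)
    refine ⟨fun k x => if hx : π x = b then S k ⟨x, hx⟩ else 0, fun k l g hg hkl => ?_,
      fun k g hg hk x hx => ?_⟩
    · refine hS1 k l (ρ ⟨g, hg⟩) ⟨_, rfl⟩ fun z => ?_
      have h1 := hkl z z.2
      simp only [dif_pos (show π ((g : Perm Ω) z) = b from hGb ⟨g, hg⟩ z z.2), dif_pos z.2] at h1
      exact h1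
    · have h1 : ρ ⟨g, hg⟩ = 1 := hS2 k _ ⟨_, rfl⟩ fun z => by
        have h2 := hk z z.2
        simp only [dif_pos (show π ((g : Perm Ω) z) = b from hGb ⟨g, hg⟩ z z.2), dif_pos z.2] at h2
        exact h2
      exact congrArg Subtype.val (DFunLike.congr_fun h1 ⟨x, hx⟩)
  by_cases htr : ∀ x y : Ω, ∃ u ∈ (⊤ : Subgroup G), ((u : G) : Perm Ω) x = y
  swap
  · refine step ⊤ inferInstance (fun h => hG ?_) htr
    refine (Subgroup.eq_bot_iff_forall G).2 fun g hg => ?_
    have h' : (⟨g, hg⟩ : G) ∈ (⊥ : Subgroup G) := by rw [← h]; exact mem_top _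
    exact congrArg Subtype.val (mem_bot.1 h')
  haveI : Nontrivial G := G.nontrivial_iff_ne_bot.2 hG
  obtain ⟨N, hN, hN1, hmin⟩ := Solvable.exists_minimal_normal (G := G)
  by_cases hNt : ∀ x y : Ω, ∃ u ∈ N, ((u : G) : Perm Ω) x = y
  · haveI : Nonempty Ω := by
      obtain ⟨g, hg, hg1⟩ := G.bot_or_exists_ne_one.resolve_left hG
      by_contra hne
      rw [not_nonempty_iff] at hne
      exact hg1 (Equiv.ext fun x => isEmptyElim x)
    exact colourBase_affine hlin (hn ▸ hnM) hsol N hN1 hmin hNt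
  · exact step N hN hN1 hNt

end CfsgLib.BaseThree
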