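import Cfsg.Agent.BaseThree.Defs
import Mathlib.Data.ZMod.Basic
import Mathlib.Algebra.Module.ZMod
import Mathlib.LinearAlgebra.Pi

/-!
# Five inequivalent regular triples
-/

set_option autoImplicit false
set_option linter.style.haveILetI false

namespace CfsgLib.BaseThree

open CfsgLib.RegOrbit

universe v

/-- The transvection adding coordinate `j` to coordinate `i`. -/
def transv (p : ℕ) (i j : Fin 3) (h : i ≠ j) : AutGp (Fin 3 → ZMod p) where
  val := AddMonoidHom.mk' (fun f => f + Pi.single i (f j)) fun f g => by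
    rw [Pi.add_apply, Pi.single_add]; abel
  inv := AddMonoidHom.mk' (fun f => f - Pi.single i (f j)) fun f g => by
    rw [Pi.add_apply, Pi.single_add]; abel
  val_inv := AddMonoidHom.ext fun f => by
    show (f - Pi.single i (f j)) + Pi.single i ((f - Pi.single i (f j) : Fin 3 → ZMod p) j) = f
    rw [Pi.sub_apply, Pi.single_eq_of_ne h.symm, sub_zero, sub_add_cancel]
  inv_val := AddMonoidHom.ext fun f => by
    show (f + Pi.single i (f j)) - Pi.single i ((f + Pi.single i (f j) : Fin 3 → ZMod p) j) = f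
    rw [Pi.add_apply, Pi.single_eq_of_ne h.symm, add_zero, add_sub_cancel_right]

theorem transv_apply (p : ℕ) (i j : Fin 3) (h : i ≠ j) (f : Fin 3 → ZMod p) :
    ((transv p i j h : AutGp (Fin 3 → ZMod p)) : AddMonoid.End (Fin 3 → ZMod p)) f =
      f + Pi.single i (f j) := rfl

open scoped commutatorElement in
theorem transv_commutator (p : ℕ) {i j k : Fin 3} (hij : i ≠ j) (hjk : j ≠ k) (hik : i ≠ k) :
    ⁅transv p i j hij, transv p j k hjk⁆ = transv p i k hik := by
  have h : transv p i j hij * transv p j k hjk =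
      transv p i k hik * transv p j k hjk * transv p i j hij := by
    refine Units.ext (AddMonoidHom.ext fun f => ?_)
    let T : Fin 3 → Fin 3 → (Fin 3 → ZMod p) → Fin 3 → ZMod p := fun a b f =>
      f + Pi.single a (f b)
    show T i j (T j k f) = T i k (T j k (T i j f))
    simp only [T]
    funext l
    fin_cases i <;> fin_cases j <;> fin_cases k <;>
      first
        | (exfalso; exact hij rfl)
        | (exfalso; exact hjk rfl)
        | (exfalso; exact hik rfl)
        | (fin_cases l <;> simp <;> ring)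
  rw [commutatorElement_def, h]
  group

/-- The general linear group in dimension three is not solvable. -/
theorem not_isSolvable_autGp_three (p : ℕ) [Fact p.Prime] :
    ¬ Group.IsSolvable (AutGp (Fin 3 → ZMod p)) := by
  intro hsol
  set T : Subgroup (AutGp (Fin 3 → ZMod p)) :=
    Subgroup.closure {g | ∃ (i j : Fin 3) (h : i ≠ j), g = transv p i j h} with hT
  have hmem : ∀ (i j : Fin 3) (h : i ≠ j), transv p i j h ∈ T := fun i j h =>
    Subgroup.subset_closure ⟨i, j, h, rfl⟩
  have hne : T ≠ ⊥ := by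
    intro h
    have h1 := hmem 0 1 (by decide)
    rw [h, Subgroup.mem_bot] at h1
    have h2 := congrFun (DFunLike.congr_fun (congrArg Units.val h1) (Pi.single 1 1)) 0
    rw [transv_apply] at h2
    simp at h2
  have hle : T ≤ ⁅T, T⁆ := by
    rw [hT, Subgroup.closure_le]
    rintro _ ⟨i, j, h, rfl⟩
    obtain ⟨k, hki, hkj⟩ : ∃ k : Fin 3, i ≠ k ∧ k ≠ j := by
      revert h; revert i j; decide
    rw [← transv_commutator p hki hkj h]
    exact Subgroup.commutator_mem_commutator (hmem _ _ _) (hmem _ _ _)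
  haveI := hsol
  exact not_le_of_gt (Group.IsSolvable.commutator_lt_of_ne_bot hne) hle

variable {W : Type v} [AddCommGroup W] [Finite W] {B : Subgroup (AutGp W)}

/-- The image of a triple. -/
def app3 (a : AutGp W) (t : W × W × W) : W × W × W :=
  ((a : AddMonoid.End W) t.1, (a : AddMonoid.End W) t.2.1, (a : AddMonoid.End W) t.2.2)

/-- A triple fixed only by the identity. -/
def Regular (B : Subgroup (AutGp W)) (t : W × W × W) : Prop :=
  ∀ a ∈ B, app3 a t = t → a = 1

omit [Finite W] in
theorem app3_eq_iff {a : AutGp W} {t s : W × W × W} :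
    app3 a t = s ↔ (a : AddMonoid.End W) t.1 = s.1 ∧ (a : AddMonoid.End W) t.2.1 = s.2.1 ∧
      (a : AddMonoid.End W) t.2.2 = s.2.2 := by
  simp only [app3, Prod.ext_iff]

/-- Without a regular pair a regular triple is independent. -/
theorem exists_five_triples_indep (hsol : Group.IsSolvable B) {p : ℕ} [Fact p.Prime]
    [Module (ZMod p) W] (hpair : ∀ v w : W, ∃ a ∈ B, (a : AddMonoid.End W) v = v ∧
      (a : AddMonoid.End W) w = w ∧ a ≠ 1) (hB : Base B) :
    ∃ τ : Fin 5 → W × W × W, (∀ k, Regular B (τ k)) ∧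
      ∀ k l, ∀ a ∈ B, app3 a (τ k) = τ l → k = l := by
  obtain ⟨t₀, t₁, t₂, ht⟩ := hB
  let L : (Fin 3 → ZMod p) →ₗ[ZMod p] W :=
    { toFun := fun f => f 0 • t₀ + f 1 • t₁ + f 2 • t₂
      map_add' := fun f g => by simp only [Pi.add_apply, add_smul]; abel
      map_smul' := fun c f => by
        simp only [Pi.smul_apply, smul_eq_mul, RingHom.id_apply, smul_add, smul_smul] }
  have hL : ∀ f : Fin 3 → ZMod p, L f = f 0 • t₀ + f 1 • t₁ + f 2 • t₂ := fun f => by
    rfl
  have hlin : ∀ (a : AutGp W) (c : ZMod p) x,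
      (a : AddMonoid.End W) (c • x) = c • (a : AddMonoid.End W) x := fun a c x =>
    (AddMonoidHom.toZModLinearMap p (a : AddMonoid.End W)).map_smul c x
  have hLinj : Function.Injective L := by
    rw [injective_iff_map_eq_zero]
    intro f hf
    rw [hL] at hf
    by_contra hne
    obtain ⟨i, hi⟩ := Function.ne_iff.1 hne
    have key : ∀ (c : ZMod p) (x y : W), c ≠ 0 → c • x + y = 0 → ∀ a : AutGp W,
        (a : AddMonoid.End W) y = y → (a : AddMonoid.End W) x = x := by
      intro c x y hc hxy a hy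
      have hx : x = c⁻¹ • (-y) := by
        rw [← eq_neg_of_add_eq_zero_left hxy, smul_smul, inv_mul_cancel₀ hc, one_smul]
      rw [hx, hlin, map_neg, hy]
    fin_cases i
    · obtain ⟨a, ha, h1, h2, h3⟩ := hpair t₁ t₂
      refine h3 (ht a ha (key (f 0) t₀ (f 1 • t₁ + f 2 • t₂) hi (by rw [← hf]; abel) a ?_) h1 h2)
      rw [map_add, hlin, hlin, h1, h2]
    · obtain ⟨a, ha, h1, h2, h3⟩ := hpair t₀ t₂
      refine h3 (ht a ha h1 (key (f 1) t₁ (f 0 • t₀ + f 2 • t₂) hi (by rw [← hf]; abel) a ?_) h2)
      rw [map_add, hlin, hlin, h1, h2]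
    · obtain ⟨a, ha, h1, h2, h3⟩ := hpair t₀ t₁
      refine h3 (ht a ha h1 h2 (key (f 2) t₂ (f 0 • t₀ + f 1 • t₁) hi (by rw [← hf]; abel) a ?_))
      rw [map_add, hlin, hlin, h1, h2]
  have hdet : ∀ a ∈ B, ∀ b ∈ B, (∀ f, (a : AddMonoid.End W) (L f) = (b : AddMonoid.End W) (L f)) →
      a = b := by
    intro a ha b hb hab
    refine (inv_mul_eq_one.1 (ht _ (mul_mem (inv_mem hb) ha) ?_ ?_ ?_)).symm
    · have := hab (Pi.single 0 1)
      rw [hL] at this; simp at this
      rw [mul_apply', this, inv_apply']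
    · have := hab (Pi.single 1 1)
      rw [hL] at this; simp at this
      rw [mul_apply', this, inv_apply']
    · have := hab (Pi.single 2 1)
      rw [hL] at this; simp at this
      rw [mul_apply', this, inv_apply']
  let S : Subgroup (AutGp (Fin 3 → ZMod p)) :=
    { carrier := {φ | ∃ a ∈ B, ∀ f, (a : AddMonoid.End W) (L f) =
        L ((φ : AddMonoid.End (Fin 3 → ZMod p)) f)}
      one_mem' := ⟨1, one_mem _, fun f => rfl⟩
      mul_mem' := by
        rintro φ ψ ⟨a, ha, h1⟩ ⟨b, hb, h2⟩
        exact ⟨a * b, mul_mem ha hb, fun f => by rw [mul_apply', h2, h1]; rfl⟩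
      inv_mem' := by
        rintro φ ⟨a, ha, h1⟩
        refine ⟨a⁻¹, inv_mem ha, fun f => ?_⟩
        conv_lhs => rw [← apply_inv' φ f, ← h1]
        exact inv_apply' a _ }
  choose α hαB hα using fun φ : S => φ.2
  let ρ : S →* B := MonoidHom.mk' (fun φ => ⟨α φ, hαB φ⟩) fun φ ψ => Subtype.ext
    (hdet _ (hαB _) _ (mul_mem (hαB φ) (hαB ψ)) fun f => (hα (φ * ψ) f).trans (by
      show L _ = (α φ * α ψ : AutGp W).val (L f)
      rw [mul_apply', hα ψ f, hα φ]; rfl))
  have hρ : Function.Injective ρ := fun φ ψ h => Subtype.ext (Units.ext (AddMonoidHom.ext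
    fun f => hLinj ((hα φ f).symm.trans ((congrArg (fun a : B => (a : AutGp W).val (L f)) h).trans
      (hα ψ f)))))
  haveI := hsol
  have hSsol : Group.IsSolvable S := Group.isSolvable_of_isSolvable_injective hρ
  obtain ⟨φ, hφ⟩ := exists_five (not_isSolvable_autGp_three p) S hSsol
  let e : Fin 3 → Fin 3 → ZMod p := fun i => Pi.single i 1
  let tr : AutGp (Fin 3 → ZMod p) → W × W × W := fun χ =>
    (L ((χ : AddMonoid.End (Fin 3 → ZMod p)) (e 0)), L ((χ : AddMonoid.End (Fin 3 → ZMod p)) (e 1)),
      L ((χ : AddMonoid.End (Fin 3 → ZMod p)) (e 2)))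
  have hall : ∀ (a : AutGp W) χ χ', app3 a (tr χ) = tr χ' → ∀ f,
      (a : AddMonoid.End W) (L ((χ : AddMonoid.End (Fin 3 → ZMod p)) f)) =
        L ((χ' : AddMonoid.End (Fin 3 → ZMod p)) f) := by
    intro a χ χ' h f
    obtain ⟨h0, h1, h2⟩ := app3_eq_iff.1 h
    set P := ((AddMonoidHom.toZModLinearMap p (a : AddMonoid.End W)).comp L).comp
      (AddMonoidHom.toZModLinearMap p (χ : AddMonoid.End (Fin 3 → ZMod p)))
    set Q := L.comp (AddMonoidHom.toZModLinearMap p (χ' : AddMonoid.End (Fin 3 → ZMod p)))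
    have hPQ : P = Q := LinearMap.pi_ext fun i c => by
      rw [show Pi.single i c = c • e i by
        funext j; simp [e, Pi.single_apply], map_smul, map_smul]
      congr 1
      fin_cases i
      · exact h0
      · exact h1
      · exact h2
    exact LinearMap.congr_fun hPQ f
  refine ⟨fun k => tr (φ k)⁻¹, fun k a ha hfix => hdet a ha 1 (one_mem _) fun f => ?_,
    fun k l a ha hkl => (hφ l k ⟨a, ha, fun f => ?_⟩).symm⟩
  · have := hall a _ _ hfix ((φ k : AutGp (Fin 3 → ZMod p)).val f)
    rw [inv_apply'] at this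
    exact this
  · have := hall a _ _ hkl ((φ k : AutGp (Fin 3 → ZMod p)).val f)
    rw [inv_apply'] at this
    rw [this, mul_apply']

/-- A solvable group with a base of three vectors has five regular orbits on triples. -/
theorem exists_five_triples [Nontrivial W] (hsol : Group.IsSolvable B) {p : ℕ} [Fact p.Prime]
    (hp : ∀ x : W, p • x = 0) (hB : Base B) :
    ∃ τ : Fin 5 → W × W × W, (∀ k, Regular B (τ k)) ∧
      ∀ k l, ∀ a ∈ B, app3 a (τ k) = τ l → k = l := by
  classical
  by_cases hpair : ∃ v w : W, ∀ a ∈ B, (a : AddMonoid.End W) v = v →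
      (a : AddMonoid.End W) w = w → a = 1
  · -- from a pair
    have hpair' : ∃ v w : W, v ≠ 0 ∧ w ≠ v ∧ ∀ a ∈ B, (a : AddMonoid.End W) v = v →
        (a : AddMonoid.End W) w = w → a = 1 := by
      obtain ⟨v, w, h⟩ := hpair
      by_cases hv : v = 0
      · subst hv
        by_cases hw : w = 0
        · subst hw
          obtain ⟨u, hu⟩ := exists_ne (0 : W)
          exact ⟨u, 0, hu, hu.symm, fun a ha _ h0 => h a ha h0 h0⟩
        · exact ⟨w, 0, hw, Ne.symm hw, fun a ha h1 h0 => h a ha h0 h1⟩
      · by_cases hwv : w = v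
        · exact ⟨v, 0, hv, Ne.symm hv, fun a ha h1 _ => h a ha h1 (hwv ▸ h1)⟩
        · exact ⟨v, w, hv, hwv, h⟩
    obtain ⟨v, w, hv, hwv, h⟩ := hpair'
    let pat : W × W × W → Bool × Bool × Bool × Bool := fun t =>
      (decide (t.1 = 0), decide (t.2.1 = 0), decide (t.2.2 = 0), decide (t.1 = t.2.1))
    have hpat : ∀ (a : AutGp W) t s, app3 a t = s → pat t = pat s := by
      intro a t s hts
      obtain ⟨h1, h2, h3⟩ := app3_eq_iff.1 hts
      have hinj : Function.Injective (a : AddMonoid.End W) := fun x y hxy => by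
        rw [← inv_apply' a x, hxy, inv_apply']
      simp only [pat, ← h1, ← h2, ← h3, hinj.eq_iff, map_eq_zero_iff _ hinj]
    have hfin : ∀ (τ : Fin 5 → W × W × W) (T : Fin 5 → Bool × Bool × Bool × Bool),
        Function.Injective T → (∀ k, pat (τ k) = T k) →
        ∀ k l, ∀ a ∈ B, app3 a (τ k) = τ l → k = l := fun τ T hT hτ k l a _ hkl =>
      hT (by rw [← hτ, ← hτ, hpat a _ _ hkl])
    by_cases hw : w = 0
    · subst hw
      have h' : ∀ a ∈ B, (a : AddMonoid.End W) v = v → a = 1 := fun a ha h1 =>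
        h a ha h1 (map_zero _)
      refine ⟨![(v, 0, 0), (v, 0, v), (v, v, 0), (v, v, v), (0, v, 0)], fun k a ha hfix => ?_,
        hfin _ ![(false, true, true, false), (false, true, false, false), (false, false, true, true),
          (false, false, false, true), (true, false, true, false)] (by decide) fun k => ?_⟩
      · fin_cases k <;> simp [app3_eq_iff] at hfix <;> exact h' a ha (by tauto)
      · fin_cases k <;> simp [pat, hv, Ne.symm hv]
    · refine ⟨![(v, w, 0), (v, w, v), (v, 0, w), (0, v, w), (v, v, w)], fun k a ha hfix => ?_,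
        hfin _ ![(false, false, true, false), (false, false, false, false),
          (false, true, false, false), (true, false, false, false), (false, false, false, true)]
          (by decide) fun k => ?_⟩
      · fin_cases k <;> simp [app3_eq_iff] at hfix <;> exact h a ha (by tauto) (by tauto)
      · fin_cases k <;> simp [pat, hv, hw, Ne.symm hv, Ne.symm hwv]
  · push Not at hpair
    letI : Module (ZMod p) W := AddCommGroup.zmodModule hp
    exact exists_five_triples_indep (p := p) hsol hpair hB

end CfsgLib.BaseThree
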