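import Cfsg.Agent.BaseThree.Colour
import Cfsg.Agent.BaseThree.Triples

/-!
# Bases of three vectors along permuted decompositions
-/

set_option autoImplicit false
set_option linter.style.haveILetI false

namespace CfsgLib.BaseThree

open Equiv CfsgLib.RegOrbit

universe v

variable {V : Type v} [AddCommGroup V] [Finite V] {A : Subgroup (AutGp V)}

omit [Finite V] in
theorem card_index_lt {ι : Type v} [Fintype ι] [Finite V] {U : ι → AddSubgroup V}
    (hU : IsDecomp U) : Nat.card ι < Nat.card V := by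
  classical
  have hu : ∀ i, ∃ u ∈ U i, u ≠ 0 := fun i => (U i).bot_or_exists_ne_zero.resolve_left (hU.ne i)
  choose u hu hu0 using hu
  let f : Option ι → V := fun o => o.elim 0 u
  have hsingle : ∀ i, ∀ k, (Pi.single i (u i) : ι → V) k ∈ U k := fun i k => by
    by_cases h : k = i
    · subst h; rw [Pi.single_eq_same]; exact hu k
    · rw [Pi.single_eq_of_ne h]; exact zero_mem _
  have hf : Function.Injective f := by
    rintro (_ | i) (_ | j) h
    · rfl
    · exact absurd h.symm (hu0 j)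
    · exact absurd h (hu0 i)
    · by_contra hne
      have hij : i ≠ j := fun e => hne (congrArg some e)
      have := hU.eq_of_sum_eq (hsingle i) (hsingle j)
        (by rw [Finset.sum_pi_single', Finset.sum_pi_single']; simpa [f] using h) i
      rw [Pi.single_eq_same, Pi.single_eq_of_ne hij] at this
      exact hu0 i this
  have h1 := Nat.card_le_card_of_injective f hf
  rw [Finite.card_option] at h1
  omega

/-- Base of three vectors from five inequivalent regular triples on each summand. -/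
theorem base_of_decomp (hsol : Group.IsSolvable A) (hlin : BaseBelow.{v} (Nat.card V))
    {ι : Type v} [Fintype ι] {U : ι → AddSubgroup V}
    (hU : IsDecomp U) (σ : A →* Perm ι)
    (hσ : ∀ (a : A) (i : ι), ∀ u ∈ U i, ((a : AutGp V) : AddMonoid.End V) u ∈ U (σ a i))
    (hrec : ∀ i, ∃ τ : Fin 5 → Fin 3 → V, (∀ k j, τ k j ∈ U i) ∧
      (∀ k l, ∀ a : A, σ a i = i → (∀ j, ((a : AutGp V) : AddMonoid.End V) (τ k j) = τ l j) →
        k = l) ∧
      ∀ k, ∀ a : A, σ a i = i → (∀ j, ((a : AutGp V) : AddMonoid.End V) (τ k j) = τ k j) →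
        ∀ u ∈ U i, ((a : AutGp V) : AddMonoid.End V) u = u) : Base A := by
  classical
  haveI := hsol
  obtain ⟨c, hc⟩ := exists_colourBase hlin (Nat.card ι) (card_index_lt hU) ι rfl σ.range
    (Group.isSolvable_of_surjective σ.rangeRestrict_surjective)
  choose τ hτU hτ1 hτ2 using hrec
  let rel : Setoid ι :=
    { r := fun i j => ∃ a : A, σ a i = j
      iseqv := ⟨fun i => ⟨1, by rw [map_one]; rfl⟩, fun {i j} => fun ⟨a, ha⟩ =>
        ⟨a⁻¹, by rw [map_inv, ← ha]; exact perm_inv_apply _ _⟩,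
        fun {i j k} => fun ⟨a, ha⟩ ⟨b, hb⟩ => ⟨b * a, by rw [map_mul, Perm.mul_apply, ha, hb]⟩⟩ }
  let r : ι → ι := fun i => (Quotient.mk rel i).out
  have hr : ∀ i, ∃ a : A, σ a (r i) = i := fun i => Quotient.mk_out (s := rel) i
  choose t ht using hr
  let app : A → V → V := fun a u => ((a : AutGp V) : AddMonoid.End V) u
  let x : Fin 3 → ι → V := fun j i => app (t i) (τ (r i) (c i) j)
  have hx : ∀ j i, x j i ∈ U i := fun j i => by
    have := hσ (t i) (r i) _ (hτU (r i) (c i) j)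
    rwa [ht] at this
  refine ⟨∑ i, x 0 i, ∑ i, x 1 i, ∑ i, x 2 i, fun a ha h0 h1 h2 => ?_⟩
  set α : A := ⟨a, ha⟩ with hα
  have hcomp : ∀ j i, app α (x j i) = x j (σ α i) := by
    intro j i
    have hfix : (a : AddMonoid.End V) (∑ i, x j i) = ∑ i, x j i := by
      fin_cases j
      · exact h0
      · exact h1
      · exact h2
    have g1 : ∀ k, app α (x j ((σ α)⁻¹ k)) ∈ U k := fun k => by
      have := hσ α ((σ α)⁻¹ k) _ (hx j ((σ α)⁻¹ k))
      rwa [perm_apply_inv] at this
    have g2 : ∑ k, app α (x j ((σ α)⁻¹ k)) = ∑ k, x j k := by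
      rw [Equiv.sum_comp ((σ α)⁻¹) (fun k => app α (x j k))]
      exact (map_sum (a : AddMonoid.End V) _ _).symm.trans hfix
    have := hU.eq_of_sum_eq g1 (hx j) g2 (σ α i)
    rwa [perm_inv_apply] at this
  have hrr : ∀ i, r (σ α i) = r i := fun i => congrArg Quotient.out (Quotient.sound ⟨α⁻¹, by
    rw [map_inv]; exact perm_inv_apply _ _⟩)
  have hfixr : ∀ i, σ ((t (σ α i))⁻¹ * α * t i) (r i) = r i := fun i => by
    rw [map_mul, map_mul, Perm.mul_apply, Perm.mul_apply, ht i, map_inv, Perm.inv_eq_iff_eq,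
      ← hrr i, ht]
  have hind : ∀ i (z z' : V), app α (app (t i) z) = app (t (σ α i)) z' →
      app ((t (σ α i))⁻¹ * α * t i) z = z' := by
    intro i z z' h
    show ((((t (σ α i))⁻¹ * α * t i : A) : AutGp V) : AddMonoid.End V) z = z'
    rw [Subgroup.coe_mul, Subgroup.coe_mul, mul_apply', mul_apply']
    show (((t (σ α i))⁻¹ : A) : AutGp V).val (app α (app (t i) z)) = z'
    rw [h]
    exact inv_apply' _ _
  have key : ∀ i j, app ((t (σ α i))⁻¹ * α * t i) (τ (r i) (c i) j) = τ (r i) (c (σ α i)) j := by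
    intro i j
    refine hind i _ _ ?_
    have h := hcomp j i
    simp only [x, hrr i] at h
    exact h
  have hσ1 : σ α = 1 := hc (σ α) ⟨α, rfl⟩ fun i =>
    (hτ1 (r i) _ _ _ (hfixr i) (key i)).symm
  refine eq_one_of_forall fun u => ?_
  obtain ⟨z, hz, rfl⟩ := hU.sum u
  rw [map_sum]
  refine Finset.sum_congr rfl fun i _ => ?_
  have hi : σ α i = i := by rw [hσ1]; rfl
  have hk := key i
  have hf := hfixr i
  rw [hi] at hk hf
  have g0 := hτ2 (r i) (c i) _ hf hk ((((t i)⁻¹ : A) : AutGp V).val (z i)) (by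
    have := hσ (t i)⁻¹ i _ (hz i)
    rwa [map_inv, show (σ (t i))⁻¹ i = r i from by rw [Perm.inv_eq_iff_eq, ht]] at this)
  rw [Subgroup.coe_mul, Subgroup.coe_mul, mul_apply', mul_apply', Subgroup.coe_inv,
    apply_inv'] at g0
  have h3 := congrArg (fun u => ((t i : A) : AutGp V).val u) g0
  simp only [apply_inv'] at h3
  exact h3

/-- The image of a group on an invariant subgroup is completely reducible. -/
theorem cr_resHom (U : AddSubgroup V) (H : Subgroup (AutGp V))
    (hHU : ∀ h ∈ H, ∀ u ∈ U, (h : AddMonoid.End V) u ∈ U)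
    (hcr : ∀ U' ≤ U, (∀ h ∈ H, ∀ u ∈ U', (h : AddMonoid.End V) u ∈ U') →
      ∃ W' ≤ U, (∀ h ∈ H, ∀ u ∈ W', (h : AddMonoid.End V) u ∈ W') ∧ U' ⊓ W' = ⊥ ∧ U' ⊔ W' = U) :
    CR (resHom U H hHU).range := by
  intro U₁ hU₁
  have hU' : ∀ h ∈ H, ∀ u ∈ U₁.map U.subtype, (h : AddMonoid.End V) u ∈ U₁.map U.subtype := by
    rintro h hh _ ⟨u, hu, rfl⟩
    exact ⟨_, hU₁ _ ⟨⟨h, hh⟩, rfl⟩ u hu, rfl⟩
  obtain ⟨W', hW'U, hW', hinf, hsup⟩ := hcr (U₁.map U.subtype) (by
    rintro _ ⟨u, -, rfl⟩; exact u.2) hU'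
  refine ⟨W'.comap U.subtype, ?_, ?_, ?_⟩
  · rintro _ ⟨h, rfl⟩ u hu
    exact hW' h h.2 _ hu
  · refine (AddSubgroup.eq_bot_iff_forall _).2 fun u hu => Subtype.ext ?_
    have : (u : V) ∈ U₁.map U.subtype ⊓ W' := ⟨⟨u, hu.1, rfl⟩, hu.2⟩
    rw [hinf, AddSubgroup.mem_bot] at this
    exact this
  · refine AddSubgroup.map_injective U.subtype_injective ?_
    rw [AddSubgroup.map_sup, AddSubgroup.map_comap_eq, U.range_subtype,
      inf_eq_right.2 hW'U, hsup, ← AddMonoidHom.range_eq_map, U.range_subtype]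

/-- The reducible case. -/
theorem base_of_reducible (hsol : Group.IsSolvable A) (hcr : CR A)
    (ih : BaseBelow.{v} (Nat.card V)) {U : AddSubgroup V} (hU : Inv A U) (hU0 : U ≠ ⊥)
    (hU1 : U ≠ ⊤) : Base A := by
  haveI := hsol
  obtain ⟨W, hW, hinf, hsup⟩ := hcr U hU
  have hW1 : W ≠ ⊤ := fun h => hU0 (by rw [← hinf, h, inf_top_eq])
  have key : ∀ P : AddSubgroup V, Inv A P → P ≠ ⊤ → ∃ x y z : V, x ∈ P ∧ y ∈ P ∧ z ∈ P ∧
      ∀ a ∈ A, (a : AddMonoid.End V) x = x → (a : AddMonoid.End V) y = y →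
        (a : AddMonoid.End V) z = z → ∀ u ∈ P, (a : AddMonoid.End V) u = u := by
    intro P hP hP1
    obtain ⟨x, y, z, h⟩ := ih P inferInstance inferInstance (resHom P A hP).range
      (natCard_lt_of_ne_top hP1)
      (Group.isSolvable_of_surjective (resHom P A hP).rangeRestrict_surjective)
      (cr_resHom P A hP fun U' hU'P hU' => by
        obtain ⟨T, hT, h1, h2⟩ := hcr U' hU'
        refine ⟨P ⊓ T, inf_le_left, fun a ha u hu => ⟨hP a ha u hu.1, hT a ha u hu.2⟩, ?_, ?_⟩
        · exact eq_bot_iff.2 ((inf_le_inf le_rfl inf_le_right).trans h1.le)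
        · refine le_antisymm (sup_le hU'P inf_le_left) fun u hu => ?_
          obtain ⟨x, hx, t, ht, hxt⟩ := AddSubgroup.mem_sup.1
            (show u ∈ U' ⊔ T by rw [h2]; exact AddSubgroup.mem_top u)
          refine AddSubgroup.mem_sup.2 ⟨x, hx, t, ⟨?_, ht⟩, hxt⟩
          rw [show t = u - x by rw [← hxt, add_sub_cancel_left]]
          exact P.sub_mem hu (hU'P hx))
    refine ⟨x, y, z, x.2, y.2, z.2, fun a ha h1 h2 h3 u hu => ?_⟩
    have h4 := h (resHom P A hP ⟨a, ha⟩) ⟨_, rfl⟩ (Subtype.ext h1) (Subtype.ext h2) (Subtype.ext h3)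
    exact congrArg Subtype.val (DFunLike.congr_fun (congrArg Units.val h4) ⟨u, hu⟩)
  obtain ⟨x, y, z, hx, hy, hz, h⟩ := key U hU hU1
  obtain ⟨x', y', z', hx', hy', hz', h'⟩ := key W hW hW1
  have hsplit : ∀ (a : AutGp V), a ∈ A → ∀ p ∈ U, ∀ p' ∈ W,
      (a : AddMonoid.End V) (p + p') = p + p' →
      (a : AddMonoid.End V) p = p ∧ (a : AddMonoid.End V) p' = p' := by
    intro a ha p hp p' hp' he
    rw [map_add] at he
    have h1 : (a : AddMonoid.End V) p - p ∈ U ⊓ W := by
      refine ⟨U.sub_mem (hU a ha p hp) hp, ?_⟩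
      rw [show (a : AddMonoid.End V) p - p = p' - (a : AddMonoid.End V) p' by
        rw [sub_eq_sub_iff_add_eq_add, he, add_comm]]
      exact W.sub_mem hp' (hW a ha p' hp')
    rw [hinf, AddSubgroup.mem_bot, sub_eq_zero] at h1
    rw [h1] at he
    exact ⟨h1, add_left_cancel he⟩
  refine ⟨x + x', y + y', z + z', fun a ha e1 e2 e3 => eq_one_of_forall fun v => ?_⟩
  obtain ⟨a1, b1⟩ := hsplit a ha x hx x' hx' e1
  obtain ⟨a2, b2⟩ := hsplit a ha y hy y' hy' e2
  obtain ⟨a3, b3⟩ := hsplit a ha z hz z' hz' e3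
  obtain ⟨p, hp, p', hp', rfl⟩ := AddSubgroup.mem_sup.1
    (show v ∈ U ⊔ W by rw [hsup]; exact AddSubgroup.mem_top v)
  rw [map_add, h a ha a1 a2 a3 p hp, h' a ha b1 b2 b3 p' hp']

omit [Finite V] in
/-- An irreducible group lives in prime exponent. -/
theorem exists_prime_nsmul_eq_zero [Finite V] [Nontrivial V] (hirr : Irred A) :
    ∃ p : ℕ, p.Prime ∧ ∀ x : V, p • x = 0 := by
  obtain ⟨p, hp, hdvd⟩ := Nat.exists_prime_and_dvd (Finite.one_lt_card (α := V)).ne'
  haveI := Fact.mk hp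
  obtain ⟨x, hx⟩ := exists_prime_addOrderOf_dvd_card' p hdvd
  let T : AddSubgroup V := (DistribSMul.toAddMonoidHom V p).ker
  have hT : Inv A T := fun a _ v hv => by
    show p • (a : AddMonoid.End V) v = 0
    rw [← map_nsmul, show p • v = 0 from hv, map_zero]
  rcases hirr T hT with h | h
  · have h1 : x ∈ T := show p • x = 0 by rw [← hx]; exact addOrderOf_nsmul_eq_zero x
    rw [h, AddSubgroup.mem_bot] at h1
    rw [h1, addOrderOf_zero] at hx
    exact absurd hx.symm hp.ne_one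
  · exact ⟨p, hp, fun v => show v ∈ T by rw [h]; exact AddSubgroup.mem_top v⟩

/-- The imprimitive irreducible case. -/
theorem base_of_imprimitive [Nontrivial V] (hsol : Group.IsSolvable A) (hirr : Irred A)
    (ih : BaseBelow.{v} (Nat.card V))
    {ι : Type v} [Fintype ι] {U : ι → AddSubgroup V} (hU : IsDecomp U) (σ : A →* Perm ι)
    (hσ : ∀ (a : A) (i : ι), ∀ u ∈ U i, ((a : AutGp V) : AddMonoid.End V) u ∈ U (σ a i))
    (hι : ¬ Subsingleton ι) : Base A := by
  classical
  haveI := hsol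
  obtain ⟨p, hp, hexp⟩ := exists_prime_nsmul_eq_zero hirr
  haveI := Fact.mk hp
  refine base_of_decomp hsol ih hU σ hσ fun i => ?_
  let S : Subgroup A :=
    { carrier := {a | σ a i = i}
      one_mem' := by simp
      mul_mem' := fun {a b} ha hb => by
        show σ (a * b) i = i
        rw [map_mul, Perm.mul_apply, hb, ha]
      inv_mem' := fun {a} ha => by
        show σ a⁻¹ i = i
        rw [map_inv, Perm.inv_eq_iff_eq, ha] }
  set H : Subgroup (AutGp V) := S.map A.subtype with hH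
  have hHA : H ≤ A := Subgroup.map_subtype_le S
  have hHU : ∀ h ∈ H, ∀ u ∈ U i, (h : AddMonoid.End V) u ∈ U i := by
    rintro _ ⟨a, ha, rfl⟩ u hu
    have := hσ a i u hu
    rwa [show σ a i = i from ha] at this
  have hlt : Nat.card (U i) < Nat.card V := by
    refine natCard_lt_of_ne_top fun htop => hι ?_
    have hall : ∀ j, j = i := by
      intro j
      by_contra hji
      obtain ⟨w, hw, hw0⟩ := (U j).bot_or_exists_ne_zero.resolve_left (hU.ne j)
      refine hw0 ?_
      have := hU.eq_of_sum_eq (x := Pi.single j w) (y := Pi.single i w) (fun k => ?_) (fun k => ?_)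
        (by rw [Finset.sum_pi_single', Finset.sum_pi_single']; simp) j
      · rwa [Pi.single_eq_same, Pi.single_eq_of_ne hji] at this
      · by_cases h : k = j
        · subst h; rwa [Pi.single_eq_same]
        · rw [Pi.single_eq_of_ne h]; exact zero_mem _
      · by_cases h : k = i
        · subst h; rw [Pi.single_eq_same, htop]; exact AddSubgroup.mem_top _
        · rw [Pi.single_eq_of_ne h]; exact zero_mem _
    exact ⟨fun a b => (hall a).trans (hall b).symm⟩
  have hcr : ∀ U' ≤ U i, (∀ h ∈ H, ∀ u ∈ U', (h : AddMonoid.End V) u ∈ U') →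
      ∃ W' ≤ U i, (∀ h ∈ H, ∀ u ∈ W', (h : AddMonoid.End V) u ∈ W') ∧ U' ⊓ W' = ⊥ ∧
        U' ⊔ W' = U i := by
    intro U' hU'U hU'
    suffices U' = ⊥ ∨ U' = U i by
      rcases this with h | h
      · exact ⟨U i, le_rfl, hHU, by rw [h, bot_inf_eq], by rw [h, bot_sup_eq]⟩
      · exact ⟨⊥, bot_le, fun a _ u hu => by
            rw [AddSubgroup.mem_bot] at hu ⊢; rw [hu, map_zero],
          inf_bot_eq _, by rw [h, sup_bot_eq]⟩
    set T : AddSubgroup V := ⨆ a : A, U'.map ((a : AutGp V) : AddMonoid.End V) with hT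
    have hTinv : Inv A T := by
      intro a ha u hu
      induction hu using AddSubgroup.iSup_induction' with
      | hp b x hx =>
        obtain ⟨y, hy, rfl⟩ := hx
        exact AddSubgroup.mem_iSup_of_mem ((⟨a, ha⟩ : A) * b) ⟨y, hy, rfl⟩
      | h1 => rw [map_zero]; exact zero_mem _
      | hadd x y _ _ hx hy => rw [map_add]; exact add_mem hx hy
    rcases hirr T hTinv with h | h
    · refine Or.inl (eq_bot_iff.2 fun u hu => ?_)
      rw [← h]
      exact AddSubgroup.mem_iSup_of_mem (1 : A) ⟨u, hu, rfl⟩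
    · refine Or.inr (le_antisymm hU'U fun u hu => ?_)
      let P : AddSubgroup V :=
        { carrier := {v | ∃ x : ι → V, (∀ j, x j ∈ U j) ∧ x i ∈ U' ∧ v = ∑ j, x j}
          zero_mem' := ⟨0, fun j => zero_mem _, zero_mem _, by simp⟩
          add_mem' := by
            rintro _ _ ⟨x, hx, hxi, rfl⟩ ⟨y, hy, hyi, rfl⟩
            exact ⟨x + y, fun j => add_mem (hx j) (hy j), add_mem hxi hyi,
              Finset.sum_add_distrib.symm⟩
          neg_mem' := by
            rintro _ ⟨x, hx, hxi, rfl⟩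
            exact ⟨-x, fun j => neg_mem (hx j), neg_mem hxi, (Finset.sum_neg_distrib x).symm⟩ }
      have hTP : T ≤ P := by
        refine iSup_le fun a => ?_
        rintro _ ⟨y, hy, rfl⟩
        refine ⟨Pi.single (σ a i) (((a : AutGp V) : AddMonoid.End V) y), fun j => ?_, ?_, ?_⟩
        · by_cases hj : j = σ a i
          · subst hj; rw [Pi.single_eq_same]; exact hσ a i y (hU'U hy)
          · rw [Pi.single_eq_of_ne hj]; exact zero_mem _
        · by_cases hai : σ a i = i
          · rw [hai, Pi.single_eq_same]; exact hU' _ ⟨a, hai, rfl⟩ y hy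
          · rw [Pi.single_eq_of_ne (Ne.symm hai)]; exact zero_mem _
        · rw [Finset.sum_pi_single']; simp; rfl
      obtain ⟨x, hx, hxi, hsum⟩ := hTP (show u ∈ T by rw [h]; exact AddSubgroup.mem_top u)
      have := hU.eq_of_sum_eq (x := Pi.single i u) (fun k => ?_) hx
        (by rw [Finset.sum_pi_single']; simpa using hsum) i
      · rw [Pi.single_eq_same] at this; rwa [this]
      · by_cases hk : k = i
        · subst hk; rwa [Pi.single_eq_same]
        · rw [Pi.single_eq_of_ne hk]; exact zero_mem _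
  set ρ := resHom (U i) H hHU
  haveI : Group.IsSolvable H := RegOrbit.isSolvable_of_le hHA hsol
  have hρsol : Group.IsSolvable ρ.range :=
    Group.isSolvable_of_surjective ρ.rangeRestrict_surjective
  haveI : Nontrivial (U i) := (U i).nontrivial_iff_ne_bot.2 (hU.ne i)
  obtain ⟨τ, hτ1, hτ2⟩ := exists_five_triples (p := p) hρsol
    (fun x : U i => Subtype.ext (hexp (x : V)))
    (ih (U i) inferInstance inferInstance ρ.range hlt hρsol (cr_resHom (U i) H hHU hcr))
  let tv : Fin 5 → Fin 3 → V := fun k => ![((τ k).1 : V), ((τ k).2.1 : V), ((τ k).2.2 : V)]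
  refine ⟨tv, fun k j => ?_, fun k l a ha hkl => ?_, fun k a ha hk u hu => ?_⟩
  · fin_cases j
    · exact (τ k).1.2
    · exact (τ k).2.1.2
    · exact (τ k).2.2.2
  · exact hτ2 k l (ρ ⟨_, a, ha, rfl⟩) ⟨_, rfl⟩
      (app3_eq_iff.2 ⟨Subtype.ext (hkl 0), Subtype.ext (hkl 1), Subtype.ext (hkl 2)⟩)
  · have h4 := hτ1 k (ρ ⟨_, a, ha, rfl⟩) ⟨_, rfl⟩
      (app3_eq_iff.2 ⟨Subtype.ext (hk 0), Subtype.ext (hk 1), Subtype.ext (hk 2)⟩)
    exact congrArg Subtype.val (DFunLike.congr_fun (congrArg Units.val h4) ⟨u, hu⟩)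

end CfsgLib.BaseThree
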