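import Cfsg.Agent.RegOrbit.Reduction
import Cfsg.Agent.Inv54.CentralizerFour
import Mathlib.GroupTheory.GroupAction.Quotient
import Mathlib.Tactic

/-!
# Bases of three vectors: definitions
-/

set_option autoImplicit false
set_option linter.style.haveILetI false

namespace CfsgLib.BaseThree

open Equiv CfsgLib.RegOrbit

universe v

variable {V : Type v} [AddCommGroup V]

/-- Some triple of vectors is fixed only by the identity. -/
def Base (A : Subgroup (AutGp V)) : Prop :=
  ∃ u v w : V, ∀ a ∈ A, (a : AddMonoid.End V) u = u → (a : AddMonoid.End V) v = v →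
    (a : AddMonoid.End V) w = w → a = 1

/-- The induction hypothesis. -/
def BaseBelow (N : ℕ) : Prop :=
  ∀ (W : Type v) (_ : AddCommGroup W) (_ : Finite W) (B : Subgroup (AutGp W)),
    Nat.card W < N → Group.IsSolvable B → CR B → Base B

/-- A solvable subgroup of a nonsolvable group has index at least `5`. -/
theorem five_le_index {X : Type*} [Group X] [Finite X] (hX : ¬ Group.IsSolvable X)
    (S : Subgroup X) (hS : Group.IsSolvable S) : 5 ≤ S.index := by
  by_contra hlt
  refine hX ?_
  haveI := hS
  haveI : Finite (X ⧸ S) := Quotient.finite _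
  haveI : Group.IsSolvable (Perm (X ⧸ S)) :=
    Inv54.isSolvable_perm_of_card_le_four (by rw [← Subgroup.index_eq_card]; omega)
  haveI : Group.IsSolvable S.normalCore :=
    Group.isSolvable_of_isSolvable_injective (Subgroup.inclusion_injective S.normalCore_le)
  exact Group.isSolvable_of_ker_le_range S.normalCore.subtype (MulAction.toPermHom X (X ⧸ S))
    (by rw [Subgroup.range_subtype, Subgroup.normalCore_eq_ker])

/-- Five elements in distinct cosets. -/
theorem exists_five {X : Type*} [Group X] [Finite X] (hX : ¬ Group.IsSolvable X)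
    (S : Subgroup X) (hS : Group.IsSolvable S) :
    ∃ f : Fin 5 → X, ∀ k l, (f k)⁻¹ * f l ∈ S → k = l := by
  classical
  haveI : Fintype (X ⧸ S) := Fintype.ofFinite _
  obtain ⟨φ⟩ : Nonempty (Fin 5 ↪ X ⧸ S) := by
    refine Function.Embedding.nonempty_of_card_le ?_
    rw [Fintype.card_fin, ← Nat.card_eq_fintype_card, ← Subgroup.index_eq_card]
    exact five_le_index hX S hS
  refine ⟨fun k => (φ k).out, fun k l h => φ.injective ?_⟩
  rw [← (φ k).out_eq, ← (φ l).out_eq]
  exact QuotientGroup.eq.2 h

end CfsgLib.BaseThree
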