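import Cfsg.Agent.BaseThree.Small
import Cfsg.Agent.BaseThree.Decomp
import Mathlib.RingTheory.IntegralDomain

/-!
# Bases of three vectors for solvable completely reducible groups
-/

set_option autoImplicit false
set_option linter.style.haveILetI false

namespace CfsgLib.BaseThree

open CfsgLib.RegOrbit
open scoped commutatorElement

universe v

/-- The primitive case. -/
theorem base_of_primitive {V : Type v} [AddCommGroup V] [Finite V] [Nontrivial V]
    {A : Subgroup (AutGp V)} (hsol : Group.IsSolvable A) (hprim : Prim A) (hirr : Irred A) :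
    Base A := by
  classical
  obtain ⟨Z, ⟨hZA, hZn, hZc⟩, hZmax⟩ := Set.Finite.exists_maximalFor id
    {M : Subgroup (AutGp V) | M ≤ A ∧ NormBy A M ∧ ∀ x ∈ M, ∀ y ∈ M, x * y = y * x}
    (Set.toFinite _)
    ⟨⊥, bot_le, fun a _ x hx => by rw [Subgroup.mem_bot.1 hx, mul_one, mul_inv_cancel]; exact one_mem _,
      fun x hx y _ => by rw [Subgroup.mem_bot.1 hx, one_mul, mul_one]⟩
  have hmax : ∀ M ≤ A, NormBy A M → (∀ x ∈ M, ∀ y ∈ M, x * y = y * x) → Z ≤ M → M ≤ Z :=
    fun M h1 h2 h3 h4 => hZmax ⟨h1, h2, h3⟩ h4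
  -- the field
  set K := Subring.closure (((↑) : AutGp V → AddMonoid.End V) '' (Z : Set (AutGp V))) with hKdef
  have hK : NormRing A K := normRing_closure Z hZc hZn
  letI : CommRing K :=
    { (inferInstance : Ring K) with mul_comm := fun x y => Subtype.ext (hK.comm x x.2 y y.2) }
  haveI : Nontrivial K := by
    refine ⟨0, 1, fun h => ?_⟩
    obtain ⟨v, hv⟩ := exists_ne (0 : V)
    exact hv (DFunLike.congr_fun (congrArg Subtype.val h) v).symm
  haveI : NoZeroDivisors K := ⟨fun {x y} hxy => by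
    by_cases hx : x = 0
    · exact Or.inl hx
    refine Or.inr (Subtype.ext (AddMonoidHom.ext fun v => ?_))
    refine hK.injective hprim hirr x.2 (fun h => hx (Subtype.ext h)) ?_
    exact (DFunLike.congr_fun (congrArg Subtype.val hxy) v).trans (map_zero (x : AddMonoid.End V)).symm⟩
  haveI : IsDomain K := NoZeroDivisors.to_isDomain K
  haveI : Fintype K := Fintype.ofFinite K
  letI : Field K := Fintype.fieldOfDomain K
  let ι₀ : Z →* K :=
    { toFun := fun z => ⟨((z : AutGp V) : AddMonoid.End V),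
        Subring.subset_closure ⟨_, z.2, rfl⟩⟩
      map_one' := rfl
      map_mul' := fun _ _ => rfl }
  let ι : Z →* Kˣ := ι₀.toHomUnits
  have hι : Function.Injective ι := fun a b hab =>
    Subtype.ext (Units.ext (congrArg (fun u : Kˣ => ((u : K) : AddMonoid.End V)) hab))
  have hscalar : ∀ (z : Z) v, ((z : AutGp V) : AddMonoid.End V) v = (ι z : K) • v := fun z v => rfl
  set C := A ⊓ Subgroup.centralizer (Z : Set (AutGp V)) with hC
  have hlin : ∀ a ∈ C, ∀ (t : K) v,
      (a : AddMonoid.End V) (t • v) = t • (a : AddMonoid.End V) v := by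
    intro a ha t v
    have hle : K ≤ Subring.centralizer ({(a : AddMonoid.End V)} : Set (AddMonoid.End V)) := by
      rw [hKdef, Subring.closure_le]
      rintro _ ⟨z, hz, rfl⟩
      rw [SetLike.mem_coe, Subring.mem_centralizer_iff]
      intro u hu
      rw [Set.mem_singleton_iff] at hu
      rw [hu]
      exact congrArg Units.val (Subgroup.mem_centralizer_iff.1 ha.2 z hz).symm
    exact DFunLike.congr_fun (Subring.mem_centralizer_iff.1 (hle t.2) (a : AddMonoid.End V) rfl) v
  obtain ⟨g, hg⟩ := IsCyclic.exists_generator (α := Kˣ)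
  set g₀ : K := (g : K) with hg₀
  have hsemi : ∀ a ∈ A, ∃ t : K, ∀ v,
      (a : AddMonoid.End V) (g₀ • v) = t • (a : AddMonoid.End V) v := fun a ha =>
    ⟨⟨_, hK.norm a ha _ g₀.2⟩, fun v => (conj_apply v).symm⟩
  have hmemC : ∀ a ∈ A, (∀ v, (a : AddMonoid.End V) (g₀ • v) = g₀ • (a : AddMonoid.End V) v) →
      a ∈ C := by
    intro a ha hag
    refine ⟨ha, Subgroup.mem_centralizer_iff.2 fun z hz => ?_⟩
    obtain ⟨k, hk⟩ := (isOfFinOrder_of_finite g).mem_powers_iff_mem_zpowers.2 (hg (ι ⟨z, hz⟩))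
    have hpow : ∀ (i : ℕ) v,
        (a : AddMonoid.End V) (g₀ ^ i • v) = g₀ ^ i • (a : AddMonoid.End V) v := by
      intro i
      induction i with
      | zero => intro v; rw [pow_zero, one_smul, one_smul]
      | succ i ih => intro v; rw [pow_succ, mul_smul, mul_smul, ih, hag]
    refine Units.ext (AddMonoidHom.ext fun v => ?_)
    have h1 : ∀ w : V, (z : AddMonoid.End V) w = g₀ ^ k • w := fun w => by
      rw [show (z : AddMonoid.End V) w = (ι ⟨z, hz⟩ : K) • w from rfl, ← show g ^ k = _ from hk,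
        Units.val_pow_eq_pow_val]
    show (z : AddMonoid.End V) ((a : AddMonoid.End V) v) =
      (a : AddMonoid.End V) ((z : AddMonoid.End V) v)
    rw [h1, h1, hpow]
  obtain ⟨E, hE⟩ := exists_sympData hsol hZA hZn hZc hmax
  have hZcomm : ∀ a, (∀ z ∈ Z, z * a = a * z) → a ∈ A → a ∈ C := fun a h1 h2 =>
    ⟨h2, Subgroup.mem_centralizer_iff.2 h1⟩
  by_cases hEZ : E ≤ Z
  · -- the semilinear case
    have hCZ : C ≤ Z := fun c hc => hE.cent ⟨hc, Subgroup.mem_centralizer_iff.2 fun u hu =>
      (Subgroup.mem_centralizer_iff.1 hc.2 u (hEZ hu))⟩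
    obtain ⟨v, hv⟩ := exists_ne (0 : V)
    refine ⟨v, g₀ • v, 0, fun a ha h1 h2 _ => ?_⟩
    obtain ⟨t, ht⟩ := hsemi a ha
    rw [ht, h1] at h2
    have htg : t = g₀ := sub_eq_zero.1 ((smul_eq_zero.1 (show (t - g₀) • v = 0 by
      rw [sub_smul, h2, sub_self])).resolve_right hv)
    have haZ : a ∈ Z := hCZ (hmemC a ha fun w => by rw [ht, htg])
    rw [hscalar ⟨a, haZ⟩] at h1
    have h3 : (ι ⟨a, haZ⟩ : K) = 1 := sub_eq_zero.1 ((smul_eq_zero.1
      (show ((ι ⟨a, haZ⟩ : K) - 1) • v = 0 by
        rw [sub_smul, h1, one_smul, sub_self])).resolve_right hv)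
    exact congrArg Subtype.val ((map_eq_one_iff ι hι).1 (Units.ext h3))
  have hEC : E ≤ C := hE.leC
  obtain ⟨W, iW, fW, B, hW, -, -, -, hXB, hexp⟩ := hE.exists_module hι hmax hsol
  have hs : Scalars hE ι := ⟨hι, hscalar, fun y hy => hlin y (hEC hy)⟩
  -- a nontrivial commutator gives a second scalar
  obtain ⟨u, hu, hu'⟩ := SetLike.not_le_iff_exists.1 hEZ
  obtain ⟨y, hy, hyu⟩ : ∃ y ∈ E, y * u ≠ u * y := by
    by_contra hno
    push Not at hno
    exact hu' (hE.rad ⟨hu, Subgroup.mem_centralizer_iff.2 hno⟩)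
  set ω := hE.pairing ι ⟨y, hy⟩ ⟨u, hu⟩ with hω
  have hω1 : ω ≠ 1 := fun h1 => hyu ((hE.pairing_eq_one hι _ _).1 h1)
  have hg1 : g₀ ≠ 1 := by
    intro h1
    have hg1' : g = 1 := Units.ext h1
    obtain ⟨k, hk⟩ := hg ω
    rw [hg1'] at hk
    simp at hk
    exact hω1 hk.symm
  have hsemi' : Semi A Z g₀ := ⟨g.ne_zero, hg1, hsemi,
    fun a ha hag z hz => Subgroup.mem_centralizer_iff.1 (hmemC a ha hag).2 z hz⟩
  obtain ⟨L, hL⟩ := exists_singular hE
  by_cases hLbot : L = ⊥
  swap
  · exact base_of_singular_ne_bot hs hL hLbot hsemi' hexp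
  subst hLbot
  by_cases hAC : ∀ a ∈ A, ∀ z ∈ Z, z * a = a * z
  · exact base_of_singular_eq_bot_linear hs hL hexp hAC
  by_cases hn : Module.finrank K V ≤ 2
  · exact base_of_finrank_le_two hsemi' (C := C) hlin (fun a ha h1 => hZcomm a h1 ha) hn
  obtain ⟨hN, hsq⟩ := relIndex_le_four hs hL hexp
  set q := Nat.card K with hq
  have hqpp : IsPrimePow q := by
    rw [hq, Nat.card_eq_fintype_card]; exact FiniteField.isPrimePow_card K
  -- the field has at least nine elements
  have hω2 : ω ^ 2 = 1 := by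
    rw [hω, ← MonoidHom.pow_apply, ← map_pow]
    exact (hE.pairing_eq_one hι _ _).2 (by
      push_cast
      exact (hE.centralE (hsq y hy) hu).symm)
  have h2 : (2 : K) ≠ 0 := by
    intro h2
    refine hω1 (Units.ext ?_)
    rcases sq_eq_one_iff.1 (show (ω : K) ^ 2 = 1 by
      rw [← Units.val_pow_eq_pow_val, hω2, Units.val_one]) with h3 | h3
    · exact h3
    · rw [h3, Units.val_one, neg_eq_iff_add_eq_zero, one_add_one_eq_two]; exact h2
  have hnp : ¬ q.Prime := by
    intro hp
    refine hAC fun a ha => ?_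
    have haC : a ∈ C := by
      refine hmemC a ha fun v => ?_
      have htop : AddSubgroup.zmultiples (1 : K) = ⊤ := by
        haveI := Fact.mk hp
        exact ((AddSubgroup.zmultiples (1 : K)).eq_bot_or_eq_top_of_prime_card).resolve_left
          fun h0 => one_ne_zero (AddSubgroup.zmultiples_eq_bot.1 h0)
      obtain ⟨m, hm⟩ : g₀ ∈ AddSubgroup.zmultiples (1 : K) := by
        rw [htop]; exact AddSubgroup.mem_top _
      have hsm : ∀ x : V, (m • (1 : K)) • x = m • x := fun x => by
        rw [smul_assoc, one_smul]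
      simp only at hm
      rw [← hm, hsm, hsm, map_zsmul]
    exact Subgroup.mem_centralizer_iff.1 haC.2
  have hq9 : 9 ≤ q := by
    obtain ⟨h6, -, -⟩ := small_facts hqpp
    have h0 : (q : K) = 0 := by rw [hq, Nat.card_eq_fintype_card]; exact FiniteField.cast_card_eq_zero K
    have hq1 : 2 ≤ q := hqpp.two_le
    by_contra hlt
    interval_cases hqv : q
    · exact hnp (by norm_num)
    · exact hnp (by norm_num)
    · exact h2 (by simpa [show (4 : K) = 2 ^ 2 by norm_num] using h0)
    · exact hnp (by norm_num)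
    · exact h6 rfl
    · exact hnp (by norm_num)
    · exact h2 (by simpa [show (8 : K) = 2 ^ 3 by norm_num] using h0)
  have hKu : Nat.card Kˣ = q - 1 := by rw [Nat.card_units]
  have hCbound : Nat.card C ≤ 24 * (q - 1) := by
    have hB6 : Nat.card B ≤ 6 := natCard_le_six (hW ▸ hN) B
    have h1 : Z.relIndex C ≤ 4 * 6 := by
      rw [← Subgroup.relIndex_mul_relIndex Z E C hE.le hEC]
      exact Nat.mul_le_mul hN (hXB.trans hB6)
    calc Nat.card C = Nat.card Z * Z.relIndex C := (card_mul_relIndex' (hE.le.trans hEC)).symm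
      _ ≤ (q - 1) * (4 * 6) :=
          Nat.mul_le_mul (hKu ▸ Nat.card_le_card_of_injective ι hι) h1
      _ = 24 * (q - 1) := by ring
  have hAbound : Nat.card A ≤ 24 * (q - 1) ^ 2 := by
    have h1 : C.relIndex A ≤ q - 1 := by
      rw [← hKu, Subgroup.relIndex, Subgroup.index_eq_card]
      let τ : A → Kˣ := fun a => Units.mk0
        ⟨_, hK.norm a a.2 _ g₀.2⟩ (fun h0 => g.ne_zero (Subtype.ext (conj_injective
          (a := (a : AutGp V)) (by
            refine (congrArg Subtype.val h0).trans ?_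
            show (0 : AddMonoid.End V) = _ * (0 : AddMonoid.End V) * _
            rw [mul_zero, zero_mul]))))
      refine Nat.card_le_card_of_injective (fun x : A ⧸ C.subgroupOf A => τ x.out) fun x y hxy => ?_
      have h2 := congrArg (fun u : Kˣ => ((u : K) : AddMonoid.End V)) hxy
      have h3 : ((x.out⁻¹ * y.out : A) : AutGp V) ∈ C := by
        refine hmemC _ (x.out⁻¹ * y.out).2 fun v => ?_
        set a := ((x.out : A) : AutGp V)
        set b := ((y.out : A) : AutGp V)
        show ((a⁻¹ * b : AutGp V) : AddMonoid.End V) ((g₀ : AddMonoid.End V) v) =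
          (g₀ : AddMonoid.End V) (((a⁻¹ * b : AutGp V) : AddMonoid.End V) v)
        rw [mul_apply', mul_apply', ← conj_apply (a := b)]
        show (a⁻¹ : AutGp V).val (_ : V) = _
        rw [show (b : AddMonoid.End V) * g₀ * ((b⁻¹ : AutGp V) : AddMonoid.End V) =
          (a : AddMonoid.End V) * g₀ * ((a⁻¹ : AutGp V) : AddMonoid.End V) from h2.symm]
        exact inv_apply' a _
      rw [← x.out_eq, ← y.out_eq]
      exact QuotientGroup.eq.2 h3
    calc Nat.card A = Nat.card C * C.relIndex A := (card_mul_relIndex' inf_le_left).symm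
      _ ≤ 24 * (q - 1) * (q - 1) := Nat.mul_le_mul hCbound h1
      _ = 24 * (q - 1) ^ 2 := by ring
  exact base_of_count hsemi' inf_le_left hlin (fun a ha h1 => hZcomm a h1 ha) (by omega) hq9
    hCbound hAbound

/-- **Seress**: a solvable completely reducible group has a base of three vectors. -/
theorem base_of_solvable {V : Type v} [AddCommGroup V] [Finite V] {A : Subgroup (AutGp V)}
    (hsol : Group.IsSolvable A) (hcr : CR A) : Base A := by
  suffices h : ∀ N : ℕ, BaseBelow.{v} N from
    h (Nat.card V + 1) V _ inferInstance A (Nat.lt_succ_self _) hsol hcr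
  intro N
  induction N with
  | zero => exact fun W _ _ _ h => absurd h (Nat.not_lt_zero _)
  | succ N ih =>
    intro W _ _ B hlt hBsol hBcr
    rcases Nat.lt_succ_iff_lt_or_eq.1 hlt with h | h
    · exact ih W _ inferInstance B h hBsol hBcr
    subst h
    rcases subsingleton_or_nontrivial W with hW | hW
    · exact ⟨0, 0, 0, fun a _ _ _ _ => eq_one_of_forall fun v => Subsingleton.elim _ _⟩
    by_cases hirr : Irred B
    · by_cases hprim : Prim B
      · exact base_of_primitive hBsol hprim hirr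
      · simp only [Prim, not_forall] at hprim
        obtain ⟨ι, hι, U, hU, σ, hσ, hns⟩ := hprim
        exact base_of_imprimitive hBsol hirr ih hU σ hσ hns
    · simp only [Irred, not_forall, not_or] at hirr
      obtain ⟨U, hU, hU0, hU1⟩ := hirr
      exact base_of_reducible hBsol hBcr ih hU hU0 hU1

/-- The version for an action. -/
theorem exists_triple {A V : Type*} [Group A] [Finite A] [AddCommGroup V] [Finite V]
    [DistribMulAction A V] [FaithfulSMul A V] (hsol : Group.IsSolvable A)
    (hcr : ∀ U : AddSubgroup V, (∀ a : A, ∀ v ∈ U, a • v ∈ U) →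
      ∃ W : AddSubgroup V, (∀ a : A, ∀ w ∈ W, a • w ∈ W) ∧ U ⊓ W = ⊥ ∧ U ⊔ W = ⊤) :
    ∃ u v w : V, ∀ a : A, a • u = u → a • v = v → a • w = w → a = 1 := by
  haveI := hsol
  let ρ : A →* AutGp V := (DistribMulAction.toAddMonoidEnd A V).toHomUnits
  have hρ : Function.Injective ρ := fun a b hab => eq_of_smul_eq_smul fun v : V =>
    DFunLike.congr_fun (congrArg Units.val hab) v
  obtain ⟨u, v, w, h⟩ := base_of_solvable (A := ρ.range)
    (Group.isSolvable_of_surjective ρ.rangeRestrict_surjective) (fun U hU => by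
      obtain ⟨T, hT, h1, h2⟩ := hcr U fun a u hu => hU _ ⟨a, rfl⟩ u hu
      refine ⟨T, ?_, h1, h2⟩
      rintro _ ⟨a, rfl⟩ u hu
      exact hT a u hu)
  refine ⟨u, v, w, fun a hau hav haw => hρ ?_⟩
  rw [map_one]
  exact h _ ⟨a, rfl⟩ hau hav haw

end CfsgLib.BaseThree
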