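import Mathlib.GroupTheory.FiniteAbelian.Basic
import Mathlib.Data.Fintype.Pi
import Mathlib.Tactic

/-!
# A colouring of a finite abelian group fixed by no automorphism
-/

set_option autoImplicit false
set_option linter.style.haveILetI false

namespace CfsgLib.BaseThree

/-- Four colours on the nonidentity elements of a finite abelian group, the first used once, are
preserved by the identity automorphism only. -/
theorem exists_pattern (P : Type*) [CommGroup P] [Finite P] [Nontrivial P] :
    ∃ (c : P → Fin 4) (e : P), e ≠ 1 ∧ c e = 0 ∧ (∀ x, c x = 0 → x = e) ∧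
      ∀ g : P →* P, Function.Injective g → (∀ x, x ≠ 1 → c (g x) = c x) → ∀ x, g x = x := by
  classical
  obtain ⟨ι, _, n, hn, ⟨φ⟩⟩ := CommGroup.equiv_prod_multiplicative_zmod_of_finite P
  let σ : Fin (Fintype.card ι) ≃ ι := (Fintype.equivFin ι).symm
  haveI : ∀ i, Fact (1 < n i) := fun i => ⟨hn i⟩
  let gen : ∀ i, Multiplicative (ZMod (n i)) := fun i => Multiplicative.ofAdd 1
  have hgen : ∀ i, gen i ≠ 1 := fun i h => (one_ne_zero : (1 : ZMod (n i)) ≠ 0) h
  let supp : P → Finset (Fin (Fintype.card ι)) := fun x =>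
    Finset.univ.filter fun k => φ x (σ k) ≠ 1
  let b : Fin (Fintype.card ι) → P := fun k => φ.symm (Pi.mulSingle (σ k) (gen (σ k)))
  have hcoord : ∀ k l, φ (b k) (σ l) = if l = k then gen (σ l) else 1 := by
    intro k l
    simp only [b, MulEquiv.apply_symm_apply]
    by_cases h : l = k
    · subst h; rw [if_pos rfl, Pi.mulSingle_eq_same]
    · rw [if_neg h, Pi.mulSingle_eq_of_ne (fun e => h (σ.injective e))]
  have hprod : ∀ S : Finset (Fin (Fintype.card ι)), supp (∏ k ∈ S, b k) = S := by
    intro S
    ext l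
    simp only [supp, Finset.mem_filter, Finset.mem_univ, true_and, map_prod, Finset.prod_apply,
      hcoord, Finset.prod_ite_eq]
    by_cases h : l ∈ S
    · simp [h, hgen]
    · simp [h]
  have hbsupp : ∀ k, supp (b k) = {k} := fun k => by
    rw [← hprod {k}, Finset.prod_singleton]
  have hbinj : Function.Injective b := fun k l h => Finset.singleton_injective
    (by rw [← hbsupp, ← hbsupp, h])
  have hm : 0 < Fintype.card ι := by
    rw [Fintype.card_pos_iff]
    by_contra hemp
    rw [not_nonempty_iff] at hemp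
    obtain ⟨x, hx⟩ := exists_ne (1 : P)
    exact hx (φ.injective (funext fun i => isEmptyElim i))
  let k₀ : Fin (Fintype.card ι) := ⟨0, hm⟩
  let pre : Fin (Fintype.card ι) → P := fun k => ∏ l ∈ Finset.univ.filter (· ≤ k), b l
  have hpsupp : ∀ k, supp (pre k) = Finset.univ.filter (· ≤ k) := fun k => hprod _
  have hsupp1 : supp 1 = ∅ := by simpa using hprod ∅
  have hle0 : ∀ k : Fin (Fintype.card ι), k₀ ≤ k := fun k => Nat.zero_le _
  -- a partial product with at least two factors is no generator
  have hpb : ∀ k l, k ≠ k₀ → pre k ≠ b l := by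
    intro k l hk h
    have h1 : k ∈ supp (pre k) := by rw [hpsupp]; simp
    have h2 : k₀ ∈ supp (pre k) := by rw [hpsupp]; simp [hle0]
    rw [h, hbsupp, Finset.mem_singleton] at h1 h2
    exact hk (h1.trans h2.symm)
  let c : P → Fin 4 := fun x => if x = b k₀ then 0 else if ∃ k, x = b k then 1
    else if ∃ k, k ≠ k₀ ∧ x = pre k then 2 else 3
  have hc0 : ∀ x, c x = 0 → x = b k₀ := by
    intro x hx
    simp only [c] at hx
    split_ifs at hx with h1 h2 h3
    · exact h1
    all_goals exact absurd hx (by decide)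
  have hc1 : ∀ x, c x = 1 → ∃ k, x = b k := by
    intro x hx
    simp only [c] at hx
    split_ifs at hx with h1 h2 h3
    · exact absurd hx (by decide)
    · exact h2
    all_goals exact absurd hx (by decide)
  have hc2 : ∀ x, c x = 2 → ∃ k, k ≠ k₀ ∧ x = pre k := by
    intro x hx
    simp only [c] at hx
    split_ifs at hx with h1 h2 h3
    · exact absurd hx (by decide)
    · exact absurd hx (by decide)
    · exact h3
    · exact absurd hx (by decide)
  have hcb : ∀ k, k ≠ k₀ → c (b k) = 1 := fun k hk => by
    simp only [c, if_neg (fun h => hk (hbinj h))]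
    rw [if_pos ⟨k, rfl⟩]
  have hcp : ∀ k, k ≠ k₀ → c (pre k) = 2 := fun k hk => by
    simp only [c, if_neg (hpb k k₀ hk)]
    rw [if_neg (fun ⟨l, hl⟩ => hpb k l hk hl), if_pos ⟨k, hk, rfl⟩]
  have hb1 : ∀ k, b k ≠ 1 := fun k h => by
    have := hbsupp k
    rw [h, hsupp1] at this
    exact Finset.singleton_ne_empty k this.symm
  refine ⟨c, b k₀, hb1 _, by simp [c], hc0, fun g hg hcg => ?_⟩
  have hgb0 : g (b k₀) = b k₀ := hc0 _ (by rw [hcg _ (hb1 _)]; simp [c])
  have hperm : ∀ k, ∃ l, g (b k) = b l := fun k => by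
    by_cases hk : k = k₀
    · subst hk; exact ⟨_, hgb0⟩
    · exact hc1 _ (by rw [hcg _ (hb1 _)]; exact hcb k hk)
  choose π hπ using hperm
  have hπinj : Function.Injective π := fun k l h =>
    hbinj (hg (by rw [hπ, hπ, h]))
  have hπle : ∀ k l, l ≤ k → π l ≤ k := by
    intro k l hlk
    by_cases hk : k = k₀
    · subst hk
      have hl : l = k₀ := le_antisymm hlk (hle0 l)
      subst hl
      exact le_of_eq (hbinj (by rw [← hπ, hgb0]))
    have hp1 : pre k ≠ 1 := fun h => by
      have h1 : k ∈ supp (pre k) := by rw [hpsupp]; simp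
      rw [h, hsupp1] at h1
      exact Finset.notMem_empty _ h1
    obtain ⟨k', hk', hk'e⟩ := hc2 _ (by rw [hcg _ hp1]; exact hcp k hk)
    have himg : g (pre k) = ∏ l ∈ (Finset.univ.filter (· ≤ k)).image π, b l := by
      rw [map_prod, Finset.prod_image fun a _ b _ h => hπinj h]
      exact Finset.prod_congr rfl fun l _ => hπ l
    have h1 : (Finset.univ.filter (· ≤ k)).image π = Finset.univ.filter (· ≤ k') := by
      rw [← hprod ((Finset.univ.filter (· ≤ k)).image π), ← himg, hk'e, hpsupp]
    have h2 : k' = k := by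
      have h3 := congrArg Finset.card h1
      rw [Finset.card_image_of_injective _ hπinj] at h3
      refine Fin.ext ?_
      have h4 : ∀ j : Fin (Fintype.card ι), (Finset.univ.filter (· ≤ j)).card = (j : ℕ) + 1 :=
        fun j => by rw [show Finset.univ.filter (· ≤ j) = Finset.Iic j by ext; simp, Fin.card_Iic]
      rw [h4, h4] at h3
      omega
    have h5 : π l ∈ (Finset.univ.filter (· ≤ k)).image π :=
      Finset.mem_image_of_mem _ (by simp [hlk])
    rw [h1, h2, Finset.mem_filter] at h5
    exact h5.2
  have hπid : ∀ k, π k = k := by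
    intro k
    induction k using WellFoundedLT.induction with
    | ind k ih =>
      rcases lt_or_eq_of_le (hπle k k le_rfl) with h | h
      · exact absurd (hπinj (ih _ h)) h.ne
      · exact h
  have hgbk : ∀ k, g (b k) = b k := fun k => by rw [hπ, hπid]
  have hext : (g.comp φ.symm.toMonoidHom) = φ.symm.toMonoidHom := by
    refine MonoidHom.functions_ext' _ _ _ fun i => MonoidHom.ext fun z => ?_
    obtain ⟨k, rfl⟩ := σ.surjective i
    have hz : z = gen (σ k) ^ (Multiplicative.toAdd z).val := by
      refine Multiplicative.toAdd.injective ?_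
      rw [toAdd_pow]
      simp [gen]
    show g (φ.symm (Pi.mulSingle (σ k) z)) = φ.symm (Pi.mulSingle (σ k) z)
    rw [hz, Pi.mulSingle_pow, map_pow, map_pow]
    exact congrArg (· ^ _) (hgbk k)
  intro x
  have := DFunLike.congr_fun hext (φ x)
  simpa using this

end CfsgLib.BaseThree
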