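import Cfsg.Agent.BaseThree.Symp
import Cfsg.Agent.BaseThree.Pattern
import Cfsg.Agent.RegOrbit.Count
import Mathlib.Algebra.CharP.Lemmas
import Mathlib.RingTheory.IntegralDomain
import Mathlib.FieldTheory.Finite.Basic

/-!
# Three vectors determining the orbit of a vector under a group of symplectic type
-/

set_option autoImplicit false
set_option linter.style.haveILetI false

namespace CfsgLib.BaseThree

open CfsgLib.RegOrbit
open scoped commutatorElement

universe v

variable {V : Type v} [AddCommGroup V] [Finite V] {F : Type*} [Field F] [Module F V]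
  {A Z E L : Subgroup (AutGp V)} {h : SympData A Z E} {ι : Z →* Fˣ}

local notation:80 a " ⋅ " v:81 => ((a : AutGp _) : AddMonoid.End _) v

/-- The data used below: `Z` acts as scalars and `E` linearly. -/
structure Scalars (h : SympData A Z E) (ι : Z →* Fˣ) : Prop where
  inj : Function.Injective ι
  scal : ∀ (z : Z) v, ((z : AutGp V) : AddMonoid.End V) v = (ι z : F) • v
  lin : ∀ y ∈ E, ∀ (t : F) v, (y : AddMonoid.End V) (t • v) = t • (y : AddMonoid.End V) v

omit [Finite V] in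
theorem Scalars.swap (hs : Scalars h ι) (a b : E) (v : V) :
    (a : AutGp V) ⋅ ((b : AutGp V) ⋅ v) =
      (h.pairing ι a b : F) • ((b : AutGp V) ⋅ ((a : AutGp V) ⋅ v)) := by
  rw [commutator_apply', show (⁅(a : AutGp V), (b : AutGp V)⁆ : AutGp V).val
    ((b : AutGp V) ⋅ ((a : AutGp V) ⋅ v)) = _ from hs.scal ⟨_, h.comm a a.2 b b.2⟩ _]
  rfl

omit [Finite V] in
theorem pairing_skew (hs : Scalars h ι) (a b : E) : h.pairing ι a b * h.pairing ι b a = 1 := by
  have h1 : ∀ c : E, h.pairing ι c c = 1 := fun c => (h.pairing_eq_one hs.inj c c).2 rfl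
  have h2 := h1 (a * b)
  rwa [map_mul (h.pairing ι), MonoidHom.mul_apply, map_mul (h.pairing ι a),
    map_mul (h.pairing ι b), h1, h1, one_mul, mul_one] at h2

omit [Finite V] in
theorem pairing_pow_eq_one (hs : Scalars h ι) {a b : E} {k : ℕ}
    (hc : ((a ^ k : E) : AutGp V) * b = b * (a ^ k : E)) : h.pairing ι a b ^ k = 1 := by
  rw [← MonoidHom.pow_apply, ← map_pow]
  exact (h.pairing_eq_one hs.inj (a ^ k) b).2 hc

/-- Orders of groups paired nontrivially are invertible. -/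
theorem natCast_ne_zero_of_pairing [Finite F] {H : Type*} [Group H] [Finite H] (β : H → Fˣ → Prop)
    (hβ : ∀ x : H, ∀ p : ℕ, p.Prime → orderOf x = p → ∃ ω : Fˣ, ω ≠ 1 ∧ ω ^ p = 1 ∧ β x ω) :
    (Nat.card H : F) ≠ 0 := by
  intro hzero
  obtain ⟨p, hcharp⟩ := CharP.exists F
  have hp : p.Prime := (CharP.char_is_prime_or_zero F p).resolve_right fun h0 => by
    subst h0
    haveI : CharZero F := CharP.charP_to_charZero F
    haveI : Infinite F := Infinite.of_injective _ Nat.cast_injective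
    exact not_finite F
  haveI := Fact.mk hp
  obtain ⟨x, hx⟩ := exists_prime_orderOf_dvd_card' p ((CharP.cast_eq_zero_iff F p _).1 hzero)
  obtain ⟨ω, hω, hωp, -⟩ := hβ x p hp hx
  refine hω (Units.ext ?_)
  have h1 : ((ω : F) - 1) ^ p = 0 := by
    rw [sub_pow_char, one_pow, ← Units.val_pow_eq_pow_val, hωp, Units.val_one, sub_self]
  exact sub_eq_zero.1 (pow_eq_zero_iff hp.ne_zero |>.1 h1)

/-- The averaging operator along `L`. -/
noncomputable def proj (h : SympData A Z E) (ι : Z →* Fˣ) (hL : L ≤ E) [Fintype L] (y : E)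
    (v : V) : V :=
  ∑ l : L, (h.pairing ι y ⟨(l : AutGp V), hL l.2⟩ : F) • ((l : AutGp V) ⋅ v)

omit [Finite V] in
theorem Singular.le_sup_centralizer (hL : Singular h L) :
    L ⊔ Z ≤ E ⊓ Subgroup.centralizer (L : Set (AutGp V)) :=
  sup_le (le_inf hL.le fun l hl => Subgroup.mem_centralizer_iff.2 fun l' hl' => hL.comm l' hl' l hl)
    (le_inf h.le fun z hz => Subgroup.mem_centralizer_iff.2 fun l hl => h.centralE hz (hL.le hl))

/-- `L` has a common nonzero fixed vector. -/
theorem exists_fixed [Finite F] [Nontrivial V] (hs : Scalars h ι) (hL : Singular h L) :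
    ∃ w : V, w ≠ 0 ∧ ∀ l ∈ L, l ⋅ w = w := by
  classical
  haveI : Fintype L := Fintype.ofFinite _
  set M := E ⊓ Subgroup.centralizer (L : Set (AutGp V)) with hM
  haveI : (M.subgroupOf E).Normal := normal_subgroupOf_of_le h
    ((le_sup_right : Z ≤ L ⊔ Z).trans hL.le_sup_centralizer)
  haveI : Fintype (E ⧸ M.subgroupOf E) := Fintype.ofFinite _
  obtain ⟨v, hv⟩ := exists_ne (0 : V)
  -- some projection is nonzero
  obtain ⟨x, hx⟩ : ∃ x : E ⧸ M.subgroupOf E, proj h ι hL.le x.out v ≠ 0 := by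
    by_contra hno
    push Not at hno
    have h0 : ∑ x : E ⧸ M.subgroupOf E, proj h ι hL.le x.out v = 0 :=
      Finset.sum_eq_zero fun x _ => hno x
    simp only [proj] at h0
    rw [Finset.sum_comm] at h0
    simp only [← Finset.sum_smul] at h0
    rw [Finset.sum_eq_single (1 : L)] at h0
    · have hcard : ∑ x : E ⧸ M.subgroupOf E,
          (h.pairing ι x.out ⟨((1 : L) : AutGp V), hL.le (1 : L).2⟩ : F) =
          (Nat.card (E ⧸ M.subgroupOf E) : F) := by
        rw [Nat.card_eq_fintype_card, ← nsmul_one, ← Finset.card_univ, ← Finset.sum_const]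
        refine Finset.sum_congr rfl fun x _ => ?_
        rw [show (⟨((1 : L) : AutGp V), hL.le (1 : L).2⟩ : E) = 1 from rfl, map_one, Units.val_one]
      rw [hcard] at h0
      rcases smul_eq_zero.1 h0 with h1 | h1
      · refine natCast_ne_zero_of_pairing (fun _ _ => True) (fun x p hp hxp => ?_) h1
        obtain ⟨u, rfl⟩ := QuotientGroup.mk'_surjective (M.subgroupOf E) x
        have hu : u ∉ M.subgroupOf E := fun hu => by
          rw [show (QuotientGroup.mk' (M.subgroupOf E)) u = 1 from (QuotientGroup.eq_one_iff u).2 hu,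
            orderOf_one] at hxp
          exact hp.ne_one hxp.symm
        have hup : u ^ p ∈ M.subgroupOf E := by
          rw [← QuotientGroup.eq_one_iff, ← hxp]
          exact pow_orderOf_eq_one ((QuotientGroup.mk' (M.subgroupOf E)) u)
        have hnot : ¬ ∀ l ∈ L, l * (u : AutGp V) = u * l := fun hall =>
          hu (Subgroup.mem_subgroupOf.2 ⟨u.2, Subgroup.mem_centralizer_iff.2 hall⟩)
        push Not at hnot
        obtain ⟨l, hl, hlu⟩ := hnot
        refine ⟨h.pairing ι u ⟨l, hL.le hl⟩,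
          fun h1 => hlu ((h.pairing_eq_one hs.inj _ _).1 h1).symm, pairing_pow_eq_one hs ?_, trivial⟩
        exact (Subgroup.mem_centralizer_iff.1 (Subgroup.mem_subgroupOf.1 hup).2 l hl).symm
      · exact hv h1
    · intro l _ hl
      let χ : (E ⧸ M.subgroupOf E) →* F := QuotientGroup.lift (M.subgroupOf E)
        ((Units.coeHom F).comp ((h.pairing ι).flip ⟨(l : AutGp V), hL.le l.2⟩)) fun m hm => by
          rw [MonoidHom.mem_ker]
          show ((h.pairing ι m ⟨(l : AutGp V), hL.le l.2⟩ : Fˣ) : F) = 1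
          rw [(h.pairing_eq_one hs.inj _ _).2
            (Subgroup.mem_centralizer_iff.1 (Subgroup.mem_subgroupOf.1 hm).2 _ l.2).symm,
            Units.val_one]
      have hχ : χ ≠ 1 := fun h1 => hl (by
        have hlZ : (l : AutGp V) ∈ Z := h.rad ⟨hL.le l.2, Subgroup.mem_centralizer_iff.2 fun y hy =>
          (h.pairing_eq_one hs.inj ⟨y, hy⟩ ⟨(l : AutGp V), hL.le l.2⟩).1
            (Units.ext (DFunLike.congr_fun h1 ((⟨y, hy⟩ : E) : E ⧸ M.subgroupOf E)))⟩
        have : (l : AutGp V) ∈ L ⊓ Z := ⟨l.2, hlZ⟩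
        rw [hL.inf, Subgroup.mem_bot] at this
        exact Subtype.ext this)
      have h1 : ∑ x : E ⧸ M.subgroupOf E,
          (h.pairing ι x.out ⟨(l : AutGp V), hL.le l.2⟩ : F) = 0 := by
        rw [← sum_hom_units_eq_zero χ hχ]
        refine Finset.sum_congr rfl fun x _ => ?_
        conv_rhs => rw [← x.out_eq]
        rfl
      rw [h1, zero_smul]
    · exact fun hh => absurd (Finset.mem_univ _) hh
  set u := proj h ι hL.le x.out v with hu
  have heig : ∀ l : L, (l : AutGp V) ⋅ u =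
      (h.pairing ι ⟨(l : AutGp V), hL.le l.2⟩ x.out : F) • u := by
    intro l
    rw [hu, proj, map_sum, Finset.smul_sum, ← Equiv.sum_comp (Equiv.mulLeft l) fun m : L =>
      (h.pairing ι ⟨(l : AutGp V), hL.le l.2⟩ x.out : F) •
        (h.pairing ι x.out ⟨(m : AutGp V), hL.le m.2⟩ : F) • ((m : AutGp V) ⋅ v)]
    refine Finset.sum_congr rfl fun m _ => ?_
    rw [hs.lin _ (hL.le l.2), smul_smul]
    simp only [Equiv.coe_mulLeft, Subgroup.coe_mul, mul_apply']
    congr 1
    rw [show (⟨(l : AutGp V) * m, hL.le (l * m).2⟩ : E) =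
      ⟨(l : AutGp V), hL.le l.2⟩ * ⟨(m : AutGp V), hL.le m.2⟩ from rfl, map_mul, Units.val_mul,
      ← mul_assoc, ← Units.val_mul, ← Units.val_mul, pairing_skew hs, one_mul]
  refine ⟨((x.out : E)⁻¹ : E).1 ⋅ u, fun h0 => hx ?_, fun l hl => ?_⟩
  · rw [← apply_inv' ((x.out : E) : AutGp V) u]
    exact (congrArg ((x.out : E) : AutGp V).val h0).trans (map_zero _)
  · have h1 := hs.swap ⟨l, hL.le hl⟩ (x.out : E)⁻¹ u
    simp only at h1
    rw [h1, heig ⟨l, hl⟩, hs.lin _ ((x.out : E)⁻¹).2, smul_smul, ← Units.val_mul, map_inv,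
      inv_mul_cancel, Units.val_one, one_smul]

/-- Components along translates of fixed vectors are unique. -/
theorem translates_unique [Finite F] (hs : Scalars h ι) (hL : Singular h L)
    [Fintype (E ⧸ (E ⊓ Subgroup.centralizer (L : Set (AutGp V))).subgroupOf E)]
    (ℓ : E ⧸ (E ⊓ Subgroup.centralizer (L : Set (AutGp V))).subgroupOf E → E)
    (hℓ : ∀ x, (ℓ x : E ⧸ (E ⊓ Subgroup.centralizer (L : Set (AutGp V))).subgroupOf E) = x)
    (b b' : E ⧸ (E ⊓ Subgroup.centralizer (L : Set (AutGp V))).subgroupOf E → V)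
    (hb : ∀ x, ∀ l ∈ L, l ⋅ b x = b x) (hb' : ∀ x, ∀ l ∈ L, l ⋅ b' x = b' x)
    (heq : ∑ x, (ℓ x : AutGp V) ⋅ b x = ∑ x, (ℓ x : AutGp V) ⋅ b' x) : b = b' := by
  classical
  haveI : Fintype L := Fintype.ofFinite _
  funext y
  have key : ∀ (c : E ⧸ (E ⊓ Subgroup.centralizer (L : Set (AutGp V))).subgroupOf E → V),
      (∀ x, ∀ l ∈ L, l ⋅ c x = c x) →
      proj h ι hL.le (ℓ y) (∑ x, (ℓ x : AutGp V) ⋅ c x) =
        (Nat.card L : F) • ((ℓ y : AutGp V) ⋅ c y) := by
    intro c hc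
    simp only [proj, map_sum, Finset.smul_sum]
    rw [Finset.sum_comm]
    have hterm : ∀ x (l : L), (h.pairing ι (ℓ y) ⟨(l : AutGp V), hL.le l.2⟩ : F) •
        ((l : AutGp V) ⋅ ((ℓ x : AutGp V) ⋅ c x)) =
        (h.pairing ι (ℓ y * (ℓ x)⁻¹) ⟨(l : AutGp V), hL.le l.2⟩ : F) •
          ((ℓ x : AutGp V) ⋅ c x) := by
      intro x l
      have h1 := hs.swap ⟨(l : AutGp V), hL.le l.2⟩ (ℓ x) (c x)
      simp only at h1
      rw [h1, hc x l l.2, smul_smul, ← Units.val_mul, map_mul (h.pairing ι), MonoidHom.mul_apply,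
        map_inv, MonoidHom.inv_apply,
        eq_inv_of_mul_eq_one_left (pairing_skew hs ⟨(l : AutGp V), hL.le l.2⟩ (ℓ x))]
    simp only [hterm, ← Finset.sum_smul]
    rw [Finset.sum_eq_single y]
    · congr 1
      rw [Nat.card_eq_fintype_card, ← nsmul_one, ← Finset.card_univ, ← Finset.sum_const]
      refine Finset.sum_congr rfl fun l _ => ?_
      rw [mul_inv_cancel, map_one, MonoidHom.one_apply, Units.val_one]
    · intro x _ hx
      let χ : L →* F := (Units.coeHom F).comp ((h.pairing ι (ℓ y * (ℓ x)⁻¹)).comp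
        (Subgroup.inclusion hL.le))
      have hχ : χ ≠ 1 := fun h1 => hx (by
        haveI := normal_subgroupOf_of_le h ((le_sup_right : Z ≤ L ⊔ Z).trans hL.le_sup_centralizer)
        have hm : ℓ y * (ℓ x)⁻¹ ∈
            (E ⊓ Subgroup.centralizer (L : Set (AutGp V))).subgroupOf E := by
          generalize hz : ℓ y * (ℓ x)⁻¹ = z
          refine Subgroup.mem_subgroupOf.2 ⟨z.2, Subgroup.mem_centralizer_iff.2 fun l hl => ?_⟩
          have h3 : χ ⟨l, hl⟩ = 1 := by rw [h1]; rfl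
          simp only [χ, hz, MonoidHom.comp_apply, Units.coeHom_apply, Units.val_eq_one] at h3
          exact ((h.pairing_eq_one hs.inj z (Subgroup.inclusion hL.le ⟨l, hl⟩)).1 h3).symm
        rw [← QuotientGroup.eq_one_iff, QuotientGroup.mk_mul, QuotientGroup.mk_inv, hℓ, hℓ,
          mul_inv_eq_one] at hm
        exact hm.symm)
      have h1 : ∑ l : L, (h.pairing ι (ℓ y * (ℓ x)⁻¹) ⟨(l : AutGp V), hL.le l.2⟩ : F) = 0 :=
        sum_hom_units_eq_zero χ hχ
      rw [h1, zero_smul]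
    · exact fun hh => absurd (Finset.mem_univ _) hh
  have hne : (Nat.card L : F) ≠ 0 := natCast_ne_zero_of_pairing (fun _ _ => True) fun l p hp hlp => by
    have hl1 : (l : AutGp V) ≠ 1 := fun h1 => by
      rw [show l = 1 from Subtype.ext h1, orderOf_one] at hlp
      exact hp.ne_one hlp.symm
    have hnot : ¬ ∀ y : E, h.pairing ι ⟨(l : AutGp V), hL.le l.2⟩ y = 1 := fun hall => by
      have hlZ : (l : AutGp V) ∈ Z := h.rad ⟨hL.le l.2, Subgroup.mem_centralizer_iff.2 fun z hz =>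
        ((h.pairing_eq_one hs.inj _ ⟨z, hz⟩).1 (hall ⟨z, hz⟩)).symm⟩
      have : (l : AutGp V) ∈ L ⊓ Z := ⟨l.2, hlZ⟩
      rw [hL.inf, Subgroup.mem_bot] at this
      exact hl1 this
    push Not at hnot
    obtain ⟨z, hz⟩ := hnot
    refine ⟨_, hz, pairing_pow_eq_one hs ?_, trivial⟩
    have h2 : (l : AutGp V) ^ p = 1 := by
      rw [← Subgroup.coe_pow, ← hlp, pow_orderOf_eq_one]; rfl
    push_cast
    rw [h2, one_mul, mul_one]
  have h1 := key b hb
  rw [heq, key b' hb', smul_right_inj hne] at h1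
  have := congrArg (fun z => ((ℓ y : AutGp V)⁻¹).val z) h1
  simpa [inv_apply'] using this.symm

/-- A vector fixed by `L` is fixed by nothing else in `E`. -/
theorem fix_subset (hs : Scalars h ι) (hL : Singular h L) {w : V} (hw0 : w ≠ 0)
    (hw : ∀ l ∈ L, l ⋅ w = w) {u : AutGp V} (hu : u ∈ E) (huw : u ⋅ w = w) : u ∈ L := by
  refine hL.mem hu (fun l hl => ?_) fun l hl i hi => ?_
  · refine (h.pairing_eq_one hs.inj ⟨l, hL.le hl⟩ ⟨u, hu⟩).1 (Units.ext ?_)
    have h1 := hs.swap ⟨l, hL.le hl⟩ ⟨u, hu⟩ w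
    simp only at h1
    rw [huw, hw l hl, huw] at h1
    have h2 : ((h.pairing ι ⟨l, hL.le hl⟩ ⟨u, hu⟩ : F) - 1) • w = 0 := by
      rw [sub_smul, one_smul, ← h1, sub_self]
    simpa [sub_eq_zero, hw0] using h2
  · have hfix : ∀ k : ℤ, (u ^ k) ⋅ w = w := by
      intro k
      cases k with
      | ofNat k => rw [Int.ofNat_eq_natCast, zpow_natCast]; exact pow_fix huw k
      | negSucc k => rw [zpow_negSucc]; exact inv_fix (pow_fix huw _)
    have h1 : (l * u ^ i) ⋅ w = w := by rw [mul_apply', hfix i, hw l hl]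
    rw [show (l * u ^ i).val w = _ from hs.scal ⟨_, hi⟩ w] at h1
    have h2 : ((ι ⟨_, hi⟩ : F) - 1) • w = 0 := by rw [sub_smul, h1, one_smul, sub_self]
    have h3 : ι ⟨_, hi⟩ = 1 := Units.ext (by simpa [sub_eq_zero, hw0] using h2)
    exact congrArg Subtype.val (hs.inj (h3.trans (map_one ι).symm))

/-- Fixing the orbit of `w` forces the identity. -/
theorem eq_one_of_fix_orbit (hs : Scalars h ι) (hL : Singular h L) {w : V} (hw0 : w ≠ 0)
    (hw : ∀ l ∈ L, l ⋅ w = w) {a : AutGp V} (ha : a ∈ A)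
    (hfix : ∀ y ∈ E, a ⋅ (y ⋅ w) = y ⋅ w) : a = 1 := by
  have hcomm : ∀ y ∈ E, y * a = a * y := by
    intro y hy
    set u := y⁻¹ * (a * y * a⁻¹) with hu
    have huE : u ∈ E := E.mul_mem (E.inv_mem hy) (h.normE a ha y hy)
    have hfixu : ∀ z ∈ E, u ⋅ (z ⋅ w) = z ⋅ w := by
      intro z hz
      rw [hu, mul_apply', mul_apply', mul_apply', inv_fix (hfix z hz), ← mul_apply' y z,
        hfix _ (E.mul_mem hy hz), mul_apply', inv_apply']
    have huL : u ∈ L := fix_subset hs hL hw0 hw huE (by simpa using hfixu 1 E.one_mem)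
    have huZ : u ∈ Z := h.rad ⟨huE, Subgroup.mem_centralizer_iff.2 fun z hz => by
      refine ((h.pairing_eq_one hs.inj ⟨u, huE⟩ ⟨z, hz⟩).1 (Units.ext ?_)).symm
      have h1 := hs.swap ⟨u, huE⟩ ⟨z, hz⟩ w
      simp only at h1
      rw [hfixu z hz, hw u huL] at h1
      have hzw : z ⋅ w ≠ 0 := fun h0 => hw0 (by rw [← inv_apply' z w, h0, map_zero])
      have h2 : ((h.pairing ι ⟨u, huE⟩ ⟨z, hz⟩ : F) - 1) • (z ⋅ w) = 0 := by
        rw [sub_smul, one_smul, ← h1, sub_self]
      simpa [sub_eq_zero, hzw] using h2⟩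
    have : u ∈ L ⊓ Z := ⟨huL, huZ⟩
    rw [hL.inf, Subgroup.mem_bot, hu, inv_mul_eq_one, eq_mul_inv_iff_mul_eq] at this
    exact this
  have haC : a ∈ A ⊓ Subgroup.centralizer (Z : Set (AutGp V)) :=
    ⟨ha, Subgroup.mem_centralizer_iff.2 fun z hz => hcomm z (h.le hz)⟩
  have haZ : a ∈ Z := h.cent ⟨haC, Subgroup.mem_centralizer_iff.2 hcomm⟩
  have h1 : a ⋅ w = w := by simpa using hfix 1 E.one_mem
  have := fix_subset hs hL hw0 hw (h.le haZ) h1
  have h2 : a ∈ L ⊓ Z := ⟨this, haZ⟩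
  rwa [hL.inf, Subgroup.mem_bot] at h2

end CfsgLib.BaseThree
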