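import Cfsg.Agent.BaseThree.Orbit
import Cfsg.Agent.BaseThree.Defs

/-!
# The three vectors
-/

set_option autoImplicit false
set_option linter.style.haveILetI false

namespace CfsgLib.BaseThree

open CfsgLib.RegOrbit
open scoped commutatorElement

universe v

variable {V : Type v} [AddCommGroup V] [Finite V] [Nontrivial V] {F : Type*} [Field F] [Finite F]
  [Module F V] {A Z E L : Subgroup (AutGp V)} {h : SympData A Z E} {ι : Z →* Fˣ}

local notation:80 a " ⋅ " v:81 => ((a : AutGp _) : AddMonoid.End _) v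

/-- The semilinearity seen on one scalar. -/
structure Semi (A Z : Subgroup (AutGp V)) (g₀ : F) : Prop where
  ne_zero : g₀ ≠ 0
  ne_one : g₀ ≠ 1
  semi : ∀ a ∈ A, ∃ t : F, ∀ v, (a : AddMonoid.End V) (g₀ • v) = t • (a : AddMonoid.End V) v
  mem : ∀ a ∈ A, (∀ v, (a : AddMonoid.End V) (g₀ • v) = g₀ • (a : AddMonoid.End V) v) →
    ∀ z ∈ Z, z * a = a * z

omit [Finite V] [Nontrivial V] [Finite F] in
/-- The four kinds of slots are told apart. -/
theorem colour_eq (i j : Fin 4) {u w : V} {t g : F} (hu : u ≠ 0) (hw : w ≠ 0) (ht0 : t ≠ 0)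
    (ht1 : t ≠ 1) (hg0 : g ≠ 0) (hg1 : g ≠ 1)
    (hβ : (if i = 2 then 0 else u) = if j = 2 then 0 else w)
    (hγ : (if i = 0 then t • u else if i = 1 then 0 else u) =
      if j = 0 then g • w else if j = 1 then 0 else w) :
    j = i ∧ (i = 0 → t = g) ∧ u = w := by
  have e1 : t • u ≠ 0 := smul_ne_zero ht0 hu
  have e2 : g • w ≠ 0 := smul_ne_zero hg0 hw
  have e3 : t • u ≠ u := fun h => ht1 (smul_left_injective F hu (h.trans (one_smul F u).symm))
  have e4 : g • w ≠ w := fun h => hg1 (smul_left_injective F hw (h.trans (one_smul F w).symm))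
  fin_cases i <;> fin_cases j <;> simp at hβ hγ <;>
    first
      | (exfalso; simp_all; done)
      | (subst hβ; exact ⟨rfl, fun _ => smul_left_injective F hw hγ, rfl⟩)
      | exact ⟨rfl, fun h => absurd h (by decide), hβ⟩
      | exact ⟨rfl, fun h => absurd h (by decide), hγ⟩

/-- The generic case: three vectors with trivial common stabilizer. -/
theorem base_of_singular_ne_bot (hs : Scalars h ι) (hL : Singular h L) (hLne : L ≠ ⊥) {g₀ : F}
    (hg : Semi A Z g₀)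
    (hexp : ∀ u ∈ E, ∀ r : ℕ, r.Prime → u ^ (r * r) ∈ Z → u ^ r ∈ Z) : Base A := by
  classical
  obtain ⟨w, hw0, hw⟩ := exists_fixed hs hL
  obtain ⟨m₁, hm₁, m₂, hm₂, hgen⟩ := hL.exists_two hs.inj hexp
  set M := E ⊓ Subgroup.centralizer (L : Set (AutGp V)) with hM
  have hYM : L ⊔ Z ≤ M := hL.le_sup_centralizer
  have hMn : (M.subgroupOf E).Normal := normal_subgroupOf_of_le h ((le_sup_right).trans hYM)
  haveI : Fintype (E ⧸ M.subgroupOf E) := Fintype.ofFinite _
  have hcommP : ∀ x y : E ⧸ M.subgroupOf E, x * y = y * x := by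
    rintro ⟨x⟩ ⟨y⟩
    show ((x * y : E) : E ⧸ M.subgroupOf E) = ((y * x : E) : E ⧸ M.subgroupOf E)
    rw [QuotientGroup.eq_iff_div_mem, Subgroup.mem_subgroupOf, div_eq_mul_inv]
    push_cast
    rw [show (x : AutGp V) * y * ((y : AutGp V) * x)⁻¹ = ⁅(x : AutGp V), (y : AutGp V)⁆ by
      simp [commutatorElement_def, mul_assoc]]
    exact hYM (Subgroup.mem_sup_right (h.comm x x.2 y y.2))
  letI : CommGroup (E ⧸ M.subgroupOf E) :=
    { (inferInstance : Group (E ⧸ M.subgroupOf E)) with mul_comm := hcommP }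
  haveI : Nontrivial (E ⧸ M.subgroupOf E) := by
    by_contra hnt
    rw [not_nontrivial_iff_subsingleton] at hnt
    refine hLne ((Subgroup.eq_bot_iff_forall L).2 fun l hl => ?_)
    have hlZ : l ∈ Z := h.rad ⟨hL.le hl, Subgroup.mem_centralizer_iff.2 fun y hy => by
      have hyM : (⟨y, hy⟩ : E) ∈ M.subgroupOf E :=
        (QuotientGroup.eq_one_iff _).1 (Subsingleton.elim _ _)
      exact (Subgroup.mem_centralizer_iff.1 (Subgroup.mem_subgroupOf.1 hyM).2 l hl).symm⟩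
    have : l ∈ L ⊓ Z := ⟨hl, hlZ⟩
    rwa [hL.inf, Subgroup.mem_bot] at this
  obtain ⟨col, e, he1, hce, hce', hrigid⟩ := exists_pattern (E ⧸ M.subgroupOf E)
  let ℓ : E ⧸ M.subgroupOf E → E := fun x => if x = 1 then 1 else x.out
  have hℓ1 : ℓ 1 = 1 := if_pos rfl
  have hℓ : ∀ x, (ℓ x : E ⧸ M.subgroupOf E) = x := fun x => by
    by_cases hx : x = 1
    · simp only [ℓ, if_pos hx]; exact hx.symm
    · simp only [ℓ, if_neg hx]; exact x.out_eq
  have hMfix : ∀ m ∈ M, ∀ u : V, (∀ l ∈ L, l ⋅ u = u) → ∀ l ∈ L, l ⋅ (m ⋅ u) = m ⋅ u := by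
    intro m hm u hu l hl
    rw [← mul_apply', Subgroup.mem_centralizer_iff.1 hm.2 l hl, mul_apply', hu l hl]
  have hsmul : ∀ (t : F) (u : V), (∀ l ∈ L, l ⋅ u = u) → ∀ l ∈ L, l ⋅ (t • u) = t • u :=
    fun t u hu l hl => by rw [hs.lin l (hL.le hl), hu l hl]
  -- the slots
  let β : E ⧸ M.subgroupOf E → V := fun x =>
    if x = 1 then m₁ ⋅ w else if col x = 2 then 0 else w
  let γ : E ⧸ M.subgroupOf E → V := fun x =>
    if x = 1 then m₂ ⋅ w else if col x = 0 then g₀ • w else if col x = 1 then 0 else w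
  have hβ : ∀ x, ∀ l ∈ L, l ⋅ β x = β x := by
    intro x l hl
    simp only [β]
    split_ifs
    · exact hMfix m₁ hm₁ w hw l hl
    · exact map_zero _
    · exact hw l hl
  have hγ : ∀ x, ∀ l ∈ L, l ⋅ γ x = γ x := by
    intro x l hl
    simp only [γ]
    split_ifs
    · exact hMfix m₂ hm₂ w hw l hl
    · exact hsmul g₀ w hw l hl
    · exact map_zero _
    · exact hw l hl
  refine ⟨w, ∑ x, (ℓ x : AutGp V) ⋅ β x, ∑ x, (ℓ x : AutGp V) ⋅ γ x, fun a ha h1 h2 h3 => ?_⟩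
  -- `a` normalizes `L` and `M`
  have haL : ∀ b : AutGp V, b ∈ A → b ⋅ w = w → ∀ l ∈ L, b * l * b⁻¹ ∈ L := fun b hb hbw l hl =>
    fix_subset hs hL hw0 hw (h.normE b hb l (hL.le hl))
      (by rw [mul_apply', mul_apply', inv_fix hbw, hw l hl, hbw])
  have haM : ∀ b : AutGp V, b ∈ A → b ⋅ w = w → ∀ m ∈ M, b * m * b⁻¹ ∈ M := by
    intro b hb hbw m hm
    refine ⟨h.normE b hb m hm.1, Subgroup.mem_centralizer_iff.2 fun l hl => ?_⟩
    have h' := haL b⁻¹ (A.inv_mem hb) (inv_fix hbw) l hl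
    rw [inv_inv] at h'
    calc l * (b * m * b⁻¹) = b * ((b⁻¹ * l * b) * m) * b⁻¹ := by group
      _ = b * (m * (b⁻¹ * l * b)) * b⁻¹ := by rw [Subgroup.mem_centralizer_iff.1 hm.2 _ h']
      _ = b * m * b⁻¹ * l := by group
  obtain ⟨t, ht⟩ := hg.semi a ha
  let cj : E →* E := MonoidHom.mk' (fun y => ⟨a * y * a⁻¹, h.normE a ha y y.2⟩) fun y z =>
    Subtype.ext (by
      show a * ((y : AutGp V) * z) * a⁻¹ = a * y * a⁻¹ * (a * z * a⁻¹)
      group)
  let gP : E ⧸ M.subgroupOf E →* E ⧸ M.subgroupOf E :=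
    QuotientGroup.map (M.subgroupOf E) (M.subgroupOf E) cj fun y hy => haM a ha h1 _ hy
  have hgP : ∀ y : E, gP (y : E ⧸ M.subgroupOf E) = ((cj y : E) : E ⧸ M.subgroupOf E) := fun y => rfl
  have hgPinj : Function.Injective gP := by
    rw [injective_iff_map_eq_one]
    intro x hx
    induction x using QuotientGroup.induction_on with
    | _ y =>
      rw [hgP, QuotientGroup.eq_one_iff, Subgroup.mem_subgroupOf] at hx
      rw [QuotientGroup.eq_one_iff, Subgroup.mem_subgroupOf]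
      have h' := haM a⁻¹ (A.inv_mem ha) (inv_fix h1) _ hx
      rwa [show a⁻¹ * (cj y : AutGp V) * a⁻¹⁻¹ = y by
        show a⁻¹ * (a * (y : AutGp V) * a⁻¹) * a⁻¹⁻¹ = y
        group] at h'
  have hgPbij : Function.Bijective gP := Finite.injective_iff_bijective.1 hgPinj
  let c : E ⧸ M.subgroupOf E → E := fun x => (ℓ (gP x))⁻¹ * cj (ℓ x)
  have hcM : ∀ x, (c x : AutGp V) ∈ M := fun x => by
    have : c x ∈ M.subgroupOf E := by
      rw [← QuotientGroup.eq_one_iff, QuotientGroup.mk_mul, QuotientGroup.mk_inv, hℓ, ← hgP, hℓ,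
        inv_mul_cancel]
    exact this
  have hafix : ∀ u : V, (∀ l ∈ L, l ⋅ u = u) → ∀ l ∈ L, l ⋅ (a ⋅ u) = a ⋅ u := by
    intro u hu l hl
    have h' := haL a⁻¹ (A.inv_mem ha) (inv_fix h1) l hl
    rw [inv_inv] at h'
    rw [← mul_apply', show l * a = a * (a⁻¹ * l * a) by group, mul_apply', hu _ h']
  have hmove : ∀ x (u : V), a ⋅ ((ℓ x : AutGp V) ⋅ u) =
      (ℓ (gP x) : AutGp V) ⋅ ((c x : AutGp V) ⋅ (a ⋅ u)) := by
    intro x u
    rw [← mul_apply', ← mul_apply', ← mul_apply']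
    congr 2
    show a * (ℓ x : AutGp V) =
      (ℓ (gP x) : AutGp V) * (((ℓ (gP x) : AutGp V))⁻¹ * (a * (ℓ x : AutGp V) * a⁻¹) * a)
    group
  -- components of a fixed vector
  have hcomp : ∀ δ : E ⧸ M.subgroupOf E → V, (∀ x, ∀ l ∈ L, l ⋅ δ x = δ x) →
      a ⋅ (∑ x, (ℓ x : AutGp V) ⋅ δ x) = ∑ x, (ℓ x : AutGp V) ⋅ δ x →
      ∀ x, (c x : AutGp V) ⋅ (a ⋅ δ x) = δ (gP x) := by
    intro δ hδ hfix x
    let G := Equiv.ofBijective gP hgPbij
    let δ' : E ⧸ M.subgroupOf E → V := fun y => (c (G.symm y) : AutGp V) ⋅ (a ⋅ δ (G.symm y))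
    have hδ' : ∀ y, ∀ l ∈ L, l ⋅ δ' y = δ' y := fun y =>
      hMfix _ (hcM _) _ (hafix _ (hδ _))
    have hsum : ∑ y, (ℓ y : AutGp V) ⋅ δ' y = ∑ y, (ℓ y : AutGp V) ⋅ δ y := by
      rw [← hfix, map_sum, ← Equiv.sum_comp G (fun y => (ℓ y : AutGp V) ⋅ δ' y)]
      refine Finset.sum_congr rfl fun y _ => ?_
      simp only [δ', Equiv.symm_apply_apply]
      exact (hmove y (δ y)).symm
    have := congrFun (translates_unique hs hL ℓ hℓ δ' δ hδ' hδ hsum) (gP x)
    simp only [δ'] at this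
    rwa [show G.symm (gP x) = x from G.symm_apply_apply x] at this
  have hB := hcomp β hβ h2
  have hC := hcomp γ hγ h3
  -- the colours
  have hu0 : ∀ x, (c x : AutGp V) ⋅ (a ⋅ w) ≠ 0 := fun x h0 => hw0 (by
    rw [h1] at h0
    rw [← inv_apply' (c x : AutGp V) w, h0, map_zero])
  have ht0 : t ≠ 0 := fun h0 => hg.ne_zero (by
    have h' := ht w
    rw [h0, zero_smul] at h'
    have h'' : g₀ • w = 0 := by rw [← inv_apply' a (g₀ • w), h', map_zero]
    exact (smul_eq_zero.1 h'').resolve_right hw0)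
  have ht1 : t ≠ 1 := fun h0 => hg.ne_one (by
    have h' := ht w
    rw [h0, one_smul] at h'
    have h'' : g₀ • w = w := by
      rw [← inv_apply' a (g₀ • w), h', inv_apply']
    exact smul_left_injective F hw0 (h''.trans (one_smul F w).symm))
  have hslot : ∀ x, x ≠ 1 → col (gP x) = col x ∧
      (col x = 0 → t = g₀) ∧ (c x : AutGp V) ⋅ (a ⋅ w) = w := by
    intro x hx
    have hgx : gP x ≠ 1 := fun h0 => hx (hgPinj (h0.trans (map_one gP).symm))
    have hBx := hB x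
    have hCx := hC x
    simp only [β, γ, if_neg hx, if_neg hgx] at hBx hCx
    set u := (c x : AutGp V) ⋅ (a ⋅ w) with hu
    have hu' := hu0 x
    have hcg : (c x : AutGp V) ⋅ (a ⋅ (g₀ • w)) = t • u := by rw [ht, hs.lin _ (c x).2]
    have hz : (c x : AutGp V) ⋅ (a ⋅ (0 : V)) = 0 := by rw [map_zero, map_zero]
    refine colour_eq (col x) (col (gP x)) hu' hw0 ht0 ht1 hg.ne_zero hg.ne_one ?_ ?_
    · rw [← hBx]; split_ifs
      · exact hz.symm
      · rfl
    · rw [← hCx]; split_ifs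
      · exact hcg.symm
      · exact hz.symm
      · rfl
  have hgid : ∀ x, gP x = x := hrigid gP hgPinj fun x hx => (hslot x hx).1
  have htg : t = g₀ := (hslot e he1).2.1 hce
  have haZ : ∀ z ∈ Z, z * a = a * z := hg.mem a ha fun v => by rw [ht, htg]
  have hcL : ∀ x, (c x : AutGp V) ∈ L := by
    intro x
    by_cases hx : x = 1
    · subst hx
      have : c 1 = 1 := by
        show (ℓ (gP 1))⁻¹ * cj (ℓ 1) = 1
        rw [map_one gP, hℓ1, map_one cj, inv_one, one_mul]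
      rw [this]; exact L.one_mem
    · have h' := (hslot x hx).2.2
      rw [h1] at h'
      exact fix_subset hs hL hw0 hw (c x).2 h'
  -- the subgroup where `a` acts trivially modulo `L`
  let S : Subgroup (AutGp V) :=
    { carrier := {m | m ∈ M ∧ m⁻¹ * (a * m * a⁻¹) ∈ L}
      one_mem' := ⟨M.one_mem, by simp⟩
      mul_mem' := fun {m n} hm hn => ⟨M.mul_mem hm.1 hn.1, by
        rw [show (m * n)⁻¹ * (a * (m * n) * a⁻¹) =
          n⁻¹ * (m⁻¹ * (a * m * a⁻¹)) * (a * n * a⁻¹) by group,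
          ← Subgroup.mem_centralizer_iff.1 (M.inv_mem hn.1).2 _ hm.2, mul_assoc]
        exact L.mul_mem hm.2 hn.2⟩
      inv_mem' := fun {m} hm => ⟨M.inv_mem hm.1, by
        have h' : m * (m⁻¹ * (a * m * a⁻¹))⁻¹ * m⁻¹ = m⁻¹⁻¹ * (a * m⁻¹ * a⁻¹) := by group
        rw [← h', ← Subgroup.mem_centralizer_iff.1 hm.1.2 _ (L.inv_mem hm.2),
          mul_inv_cancel_right]
        exact L.inv_mem hm.2⟩ }
  have hMS : M ≤ S := by
    refine hgen.trans (sup_le (sup_le (fun l hl => ⟨hYM (Subgroup.mem_sup_left hl),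
      L.mul_mem (L.inv_mem hl) (haL a ha h1 l hl)⟩)
      (fun z hz => ⟨hYM (Subgroup.mem_sup_right hz), ?_⟩)) ((Subgroup.closure_le S).2 ?_))
    · rw [← haZ z hz, mul_inv_cancel_right, inv_mul_cancel]; exact L.one_mem
    · have hkey : ∀ m ∈ M, (c 1 : AutGp V) ⋅ (a ⋅ (m ⋅ w)) = m ⋅ w → m ∈ S := by
        intro m hm h'
        have hc1 : (c 1 : AutGp V) = 1 := by
          show (((ℓ (gP 1))⁻¹ * cj (ℓ 1) : E) : AutGp V) = 1
          rw [map_one gP, hℓ1, map_one cj, inv_one, one_mul]; rfl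
        rw [hc1, one_apply'] at h'
        refine ⟨hm, fix_subset hs hL hw0 hw
          (E.mul_mem (E.inv_mem hm.1) (h.normE a ha m hm.1)) ?_⟩
        rw [mul_apply', mul_apply', mul_apply', inv_fix h1, h', inv_apply']
      rintro m (rfl | rfl)
      · have h' := hB 1
        simp only [β, map_one gP, if_pos] at h'
        exact hkey _ hm₁ h'
      · have h' := hC 1
        simp only [γ, map_one gP, if_pos] at h'
        exact hkey _ hm₂ h'
  refine eq_one_of_fix_orbit hs hL hw0 hw ha fun y hy => ?_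
  set x : E ⧸ M.subgroupOf E := QuotientGroup.mk (⟨y, hy⟩ : E) with hxdef
  set m := ((ℓ x : E) : AutGp V)⁻¹ * y with hm
  have hmM : m ∈ M := by
    have : (ℓ x)⁻¹ * (⟨y, hy⟩ : E) ∈ M.subgroupOf E := by
      rw [← QuotientGroup.eq_one_iff, QuotientGroup.mk_mul, QuotientGroup.mk_inv, hℓ, inv_mul_cancel]
    exact this
  have hy' : y = (ℓ x : AutGp V) * m := by rw [hm, mul_inv_cancel_left]
  have ham : a ⋅ (m ⋅ w) = m ⋅ w := by
    have h' := hw _ (hMS hmM).2
    rw [mul_apply', mul_apply', mul_apply', inv_fix h1] at h'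
    have h'' := congrArg (m : AddMonoid.End V) h'
    rwa [apply_inv'] at h''
  rw [hy', mul_apply', hmove, hgid, ham, ← mul_apply' (c x : AutGp V),
    Subgroup.mem_centralizer_iff.1 hmM.2 _ (hcL x), mul_apply', hw _ (hcL x)]

end CfsgLib.BaseThree
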