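import Cfsg.Agent.BaseThree.Slots
import Cfsg.Agent.RegOrbit.Numeric
import Cfsg.Agent.RegOrbit.QuotientModule
import Mathlib.LinearAlgebra.FiniteDimensional.Basic
import Mathlib.Data.Fintype.CardEmbedding

/-!
# The case without singular elements
-/

set_option autoImplicit false
set_option linter.style.haveILetI false

namespace CfsgLib.BaseThree

open CfsgLib.RegOrbit
open scoped commutatorElement

universe v

/-- A group of order at most four has at most six automorphisms. -/
theorem natCard_le_six {W : Type v} [AddCommGroup W] [Finite W] (hW : Nat.card W ≤ 4)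
    (B : Subgroup (AutGp W)) : Nat.card B ≤ 6 := by
  classical
  haveI : Fintype W := Fintype.ofFinite W
  haveI : Fintype B := Fintype.ofFinite B
  have hmove : ∀ (b : B) (w : W), w ≠ 0 → (b : AutGp W).val w ≠ 0 := fun b w hw h0 => hw (by
    rw [← inv_apply' (b : AutGp W) w, h0, map_zero])
  let f : B → ({w : W // w ≠ 0} ↪ {w : W // w ≠ 0}) := fun b =>
    ⟨fun w => ⟨(b : AutGp W).val w, hmove b w w.2⟩, fun x y hxy => Subtype.ext (by
      rw [← inv_apply' (b : AutGp W) x, Subtype.mk.inj hxy, inv_apply'])⟩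
  have hf : Function.Injective f := by
    intro b c hbc
    refine Subtype.ext (Units.ext (AddMonoidHom.ext fun w => ?_))
    by_cases hw : w = 0
    · subst hw; exact (map_zero _).trans (map_zero _).symm
    · exact Subtype.mk.inj (DFunLike.congr_fun hbc ⟨w, hw⟩)
  have h1 := Fintype.card_le_of_injective f hf
  rw [Fintype.card_embedding_eq, Fintype.card_subtype_compl, Fintype.card_subtype_eq,
    Nat.descFactorial_self, ← Nat.card_eq_fintype_card, ← Nat.card_eq_fintype_card] at h1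
  exact h1.trans (Nat.factorial_le (by omega : Nat.card W - 1 ≤ 3))

variable {V : Type v} [AddCommGroup V] [Finite V] [Nontrivial V] {F : Type*} [Field F] [Finite F]
  [Module F V] {A Z E : Subgroup (AutGp V)} {h : SympData A Z E} {ι : Z →* Fˣ}

local notation:80 a " ⋅ " v:81 => ((a : AutGp _) : AddMonoid.End _) v

omit [Finite F] in
/-- Without singular elements and with every element linear, two translates of a vector do. -/
theorem base_of_singular_eq_bot_linear (hs : Scalars h ι) (hL : Singular h ⊥)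
    (hexp : ∀ u ∈ E, ∀ r : ℕ, r.Prime → u ^ (r * r) ∈ Z → u ^ r ∈ Z)
    (hAC : ∀ a ∈ A, ∀ z ∈ Z, z * a = a * z) : Base A := by
  obtain ⟨w, hw0⟩ := exists_ne (0 : V)
  have hw : ∀ l ∈ (⊥ : Subgroup (AutGp V)), l ⋅ w = w := fun l hl => by
    rw [Subgroup.mem_bot.1 hl]; rfl
  obtain ⟨x, hx, y, hy, hgen⟩ := hL.exists_two hs.inj hexp
  refine ⟨w, x ⋅ w, y ⋅ w, fun a ha h1 h2 h3 => ?_⟩
  have hcx : ∀ m ∈ E, a ⋅ (m ⋅ w) = m ⋅ w → m * a = a * m := by
    intro m hm h'
    have h4 := fix_subset hs hL hw0 hw (E.mul_mem (E.inv_mem hm) (h.normE a ha m hm))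
      (show (m⁻¹ * (a * m * a⁻¹)) ⋅ w = w by
        rw [mul_apply', mul_apply', mul_apply', inv_fix h1, h', inv_apply'])
    rw [Subgroup.mem_bot, inv_mul_eq_one, eq_mul_inv_iff_mul_eq] at h4
    exact h4
  refine eq_one_of_fix_orbit hs hL hw0 hw ha fun z hz => ?_
  have hzC : z ∈ Subgroup.centralizer ({a} : Set (AutGp V)) := by
    have hle : E ⊓ Subgroup.centralizer ((⊥ : Subgroup (AutGp V)) : Set (AutGp V)) ≤
        Subgroup.centralizer ({a} : Set (AutGp V)) := by
      refine hgen.trans (sup_le (sup_le bot_le fun z hz =>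
        Subgroup.mem_centralizer_singleton_iff.2 (hAC a ha z hz)) ((Subgroup.closure_le _).2 ?_))
      rintro m (rfl | rfl)
      · exact Subgroup.mem_centralizer_singleton_iff.2 (hcx _ hx.1 h2)
      · exact Subgroup.mem_centralizer_singleton_iff.2 (hcx _ hy.1 h3)
    exact hle ⟨hz, Subgroup.mem_centralizer_iff.2 fun l hl => by
      rw [Subgroup.mem_bot.1 hl, one_mul, mul_one]⟩
  rw [← mul_apply', ← Subgroup.mem_centralizer_singleton_iff.1 hzC, mul_apply', h1]

omit [Nontrivial V] [Finite F] in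
/-- Without singular elements `Z` has index at most four. -/
theorem relIndex_le_four (hs : Scalars h ι) (hL : Singular h ⊥)
    (hexp : ∀ u ∈ E, ∀ r : ℕ, r.Prime → u ^ (r * r) ∈ Z → u ^ r ∈ Z) :
    Z.relIndex E ≤ 4 ∧ ∀ u ∈ E, u ^ 2 ∈ Z := by
  classical
  obtain ⟨x, hx, y, hy, hgen⟩ := hL.exists_two hs.inj hexp
  have hbot : ∀ l ∈ (⊥ : Subgroup (AutGp V)), ∀ u : AutGp V, l * u = u * l := fun l hl u => by
    rw [Subgroup.mem_bot.1 hl, one_mul, mul_one]
  have hsq : ∀ u ∈ E, u ^ 2 ∈ Z := fun u hu => by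
    simpa using hL.sq_mem hs.inj hexp hu fun l hl => hbot l hl u
  refine ⟨?_, hsq⟩
  haveI := h.normal
  let xq : E ⧸ Z.subgroupOf E := ((⟨x, hx.1⟩ : E) : E ⧸ Z.subgroupOf E)
  let yq : E ⧸ Z.subgroupOf E := ((⟨y, hy.1⟩ : E) : E ⧸ Z.subgroupOf E)
  have hcomm : ∀ p r : E ⧸ Z.subgroupOf E, p * r = r * p := by
    rintro ⟨p⟩ ⟨r⟩
    show ((p * r : E) : E ⧸ Z.subgroupOf E) = ((r * p : E) : E ⧸ Z.subgroupOf E)
    rw [QuotientGroup.eq_iff_div_mem, Subgroup.mem_subgroupOf, div_eq_mul_inv]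
    push_cast
    rw [show (p : AutGp V) * r * ((r : AutGp V) * p)⁻¹ = ⁅(p : AutGp V), (r : AutGp V)⁆ by
      simp [commutatorElement_def, mul_assoc]]
    exact h.comm p p.2 r r.2
  have htwo : ∀ p : E ⧸ Z.subgroupOf E, p * p = 1 := by
    rintro ⟨p⟩
    show ((p * p : E) : E ⧸ Z.subgroupOf E) = 1
    rw [QuotientGroup.eq_one_iff, Subgroup.mem_subgroupOf, ← sq]
    push_cast
    exact hsq p p.2
  have hinv : ∀ p : E ⧸ Z.subgroupOf E, p⁻¹ = p := fun p => inv_eq_of_mul_eq_one_right (htwo p)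
  let T : Subgroup (E ⧸ Z.subgroupOf E) :=
    { carrier := {p | p = 1 ∨ p = xq ∨ p = yq ∨ p = xq * yq}
      one_mem' := Or.inl rfl
      mul_mem' := by
        rintro p r (rfl | rfl | rfl | rfl) (rfl | rfl | rfl | rfl) <;>
          simp only [Set.mem_ofPred_eq, one_mul, mul_one, htwo, ← mul_assoc, true_or, or_true]
        · exact Or.inr (Or.inr (Or.inr (hcomm yq xq)))
        · refine Or.inr (Or.inl ?_); rw [hcomm yq xq, mul_assoc, htwo, mul_one]
        · refine Or.inr (Or.inr (Or.inl ?_)); rw [hcomm xq yq, mul_assoc, htwo, mul_one]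
        · refine Or.inr (Or.inl ?_); rw [mul_assoc, htwo, mul_one]
      inv_mem' := fun {p} hp => by rw [Set.mem_ofPred_eq, hinv]; exact hp }
  have hT : ∀ p : E ⧸ Z.subgroupOf E, p ∈ T := by
    intro p
    induction p using QuotientGroup.induction_on with
    | _ u =>
      have hle : E ⊓ Subgroup.centralizer ((⊥ : Subgroup (AutGp V)) : Set (AutGp V)) ≤
          (T.comap (QuotientGroup.mk' (Z.subgroupOf E))).map E.subtype := by
        refine hgen.trans (sup_le (sup_le bot_le fun z hz => ⟨⟨z, h.le hz⟩, Or.inl ?_, rfl⟩)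
          ((Subgroup.closure_le _).2 ?_))
        · exact (QuotientGroup.eq_one_iff _).2 hz
        · rintro m (rfl | rfl)
          · exact ⟨⟨m, hx.1⟩, Or.inr (Or.inl rfl), rfl⟩
          · exact ⟨⟨m, hy.1⟩, Or.inr (Or.inr (Or.inl rfl)), rfl⟩
      obtain ⟨u', hu', huu⟩ := hle ⟨u.2, Subgroup.mem_centralizer_iff.2 fun l hl => hbot l hl u⟩
      rw [Subtype.ext huu] at hu'
      exact hu'
  have h1 : Nat.card (E ⧸ Z.subgroupOf E) ≤ Nat.card (Fin 4) := by
    refine Nat.card_le_card_of_surjective ![1, xq, yq, xq * yq] fun p => ?_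
    rcases hT p with hp | hp | hp | hp
    · exact ⟨0, hp.symm⟩
    · exact ⟨1, hp.symm⟩
    · exact ⟨2, hp.symm⟩
    · exact ⟨3, hp.symm⟩
  rw [Nat.card_eq_fintype_card (α := Fin 4), Fintype.card_fin] at h1
  exact h1

omit [Finite F] in
/-- In dimension at most two a spanning pair and one multiple do. -/
theorem base_of_finrank_le_two {C : Subgroup (AutGp V)} {g₀ : F} (hg : Semi A Z g₀)
    (hlin : ∀ a ∈ C, ∀ (t : F) v, (a : AddMonoid.End V) (t • v) = t • (a : AddMonoid.End V) v)
    (hmem : ∀ a ∈ A, (∀ z ∈ Z, z * a = a * z) → a ∈ C) (hn : Module.finrank F V ≤ 2) : Base A := by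
  classical
  let b := Module.finBasis F V
  have hpos : 0 < Module.finrank F V := Module.finrank_pos
  let u : V := if hd : 1 < Module.finrank F V then b ⟨1, hd⟩ else 0
  refine ⟨b ⟨0, hpos⟩, g₀ • b ⟨0, hpos⟩, u, fun a ha h1 h2 h3 => ?_⟩
  obtain ⟨t, ht⟩ := hg.semi a ha
  have hb0 : b ⟨0, hpos⟩ ≠ 0 := b.ne_zero _
  rw [ht, h1] at h2
  have htg : t = g₀ := smul_left_injective F hb0 h2
  have haC : a ∈ C := hmem a ha (hg.mem a ha fun v => by rw [ht, htg])
  have hext : ({ toFun := fun v => (a : AddMonoid.End V) v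
                 map_add' := map_add _
                 map_smul' := hlin a haC } : V →ₗ[F] V) = LinearMap.id := by
    refine b.ext fun i => ?_
    show (a : AddMonoid.End V) (b i) = b i
    obtain ⟨k, hk⟩ := i
    rcases k with _ | k
    · exact h1
    · obtain rfl : k = 0 := by omega
      simp only [u, dif_pos hk] at h3
      exact h3
  exact eq_one_of_forall fun v => LinearMap.congr_fun hext v

omit [Nontrivial V] in
/-- Counting triples in dimension at least three over a field with at least nine elements. -/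
theorem base_of_count {C : Subgroup (AutGp V)} {g₀ : F} (hg : Semi A Z g₀) (_hCA : C ≤ A)
    (hlin : ∀ a ∈ C, ∀ (t : F) v, (a : AddMonoid.End V) (t • v) = t • (a : AddMonoid.End V) v)
    (hmem : ∀ a ∈ A, (∀ z ∈ Z, z * a = a * z) → a ∈ C) (hn : 3 ≤ Module.finrank F V)
    (hq : 9 ≤ Nat.card F) (hC : Nat.card C ≤ 24 * (Nat.card F - 1))
    (hA : Nat.card A ≤ 24 * (Nat.card F - 1) ^ 2) : Base A := by
  classical
  by_contra hB
  set q := Nat.card F
  set n := Module.finrank F V
  have hV : Nat.card V = q ^ n := exists_natCard_eq_pow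
  have hbad : ∀ p : V × V × V, ∃ a : A, a ≠ 1 ∧ p.1 ∈ fixSub (a : AutGp V) ∧
      p.2.1 ∈ fixSub (a : AutGp V) ∧ p.2.2 ∈ fixSub (a : AutGp V) := by
    intro p
    by_contra hne
    exact hB ⟨p.1, p.2.1, p.2.2, fun a ha h1 h2 h3 => by
      by_contra ha1
      exact hne ⟨⟨a, ha⟩, fun h' => ha1 (congrArg Subtype.val h'), h1, h2, h3⟩⟩
  choose f hf1 hfa hfb hfc using hbad
  haveI : Fintype {a : A // a ≠ 1} := Fintype.ofFinite _
  let Φ : V × V × V → Σ a : {a : A // a ≠ 1}, (fixSub ((a : A) : AutGp V) ×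
      fixSub ((a : A) : AutGp V) × fixSub ((a : A) : AutGp V)) := fun p =>
    ⟨⟨f p, hf1 p⟩, ⟨p.1, hfa p⟩, ⟨p.2.1, hfb p⟩, ⟨p.2.2, hfc p⟩⟩
  let π : (Σ a : {a : A // a ≠ 1}, (fixSub ((a : A) : AutGp V) ×
      fixSub ((a : A) : AutGp V) × fixSub ((a : A) : AutGp V))) → V × V × V := fun s =>
    ((s.2.1 : V), (s.2.2.1 : V), (s.2.2.2 : V))
  have hΦ : Function.Injective Φ := fun p r hpr => congrArg π hpr
  have hle := Nat.card_le_card_of_injective Φ hΦ
  rw [Nat.card_sigma, Nat.card_prod, Nat.card_prod, hV] at hle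
  simp only [Nat.card_prod] at hle
  -- fixed points
  have hfixC : ∀ a : {a : A // a ≠ 1}, ((a : A) : AutGp V) ∈ C →
      Nat.card (fixSub ((a : A) : AutGp V)) ≤ q ^ (n - 1) := by
    intro a haC
    let P : Submodule F V :=
      { fixSub ((a : A) : AutGp V) with
        smul_mem' := fun t z (hz : _ = z) => show _ = _ by rw [hlin _ haC, hz] }
    have hP : P ≠ ⊤ := fun htop => a.2 (Subtype.ext (eq_one_of_forall fun z =>
      (show z ∈ P by rw [htop]; trivial)))
    have h1 : Nat.card (fixSub ((a : A) : AutGp V)) = q ^ Module.finrank F P :=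
      Module.natCard_eq_pow_finrank (K := F) (V := P)
    rw [h1]
    have := Submodule.finrank_lt hP
    exact Nat.pow_le_pow_right (by omega) (by omega)
  have hfixA : ∀ a : {a : A // a ≠ 1}, ((a : A) : AutGp V) ∉ C →
      Nat.card (fixSub ((a : A) : AutGp V)) ^ 3 ≤ q ^ (3 * n - 4) := by
    intro a haC
    obtain ⟨t, ht⟩ := hg.semi _ (a : A).2
    have htg : t ≠ g₀ := fun h1 => haC (hmem _ (a : A).2 (hg.mem _ (a : A).2 fun v => by rw [ht, h1]))
    let g : fixSub ((a : A) : AutGp V) × fixSub ((a : A) : AutGp V) →+ V :=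
      AddMonoidHom.mk' (fun p => (p.1 : V) + g₀ • (p.2 : V)) fun p r => by
        simp only [Prod.fst_add, Prod.snd_add, AddSubgroup.coe_add, smul_add]; abel
    have hinj : Function.Injective g := by
      rw [injective_iff_map_eq_zero]
      rintro ⟨⟨x, hx⟩, ⟨y, hy⟩⟩ hxy
      have h0 : x + g₀ • y = 0 := hxy
      have h1 := congrArg (((a : A) : AutGp V) : AddMonoid.End V) h0
      rw [map_add, map_zero, hx, ht, hy] at h1
      have h2 : (t - g₀) • y = 0 := by
        calc (t - g₀) • y = (x + t • y) - (x + g₀ • y) := by rw [sub_smul]; abel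
          _ = 0 := by rw [h0, h1, sub_zero]
      have hy0 : y = 0 := (smul_eq_zero.1 h2).resolve_left (sub_ne_zero.2 htg)
      subst hy0
      rw [smul_zero, add_zero] at h0
      exact Prod.ext (Subtype.ext h0) rfl
    have h1 := Nat.card_le_card_of_injective g hinj
    rw [Nat.card_prod, hV, ← sq] at h1
    rw [← Nat.pow_le_pow_iff_left two_ne_zero, ← pow_mul, mul_comm 3 2, pow_mul, ← pow_mul q]
    calc (Nat.card (fixSub ((a : A) : AutGp V)) ^ 2) ^ 3 ≤ (q ^ n) ^ 3 := Nat.pow_le_pow_left h1 3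
      _ ≤ q ^ ((3 * n - 4) * 2) := by
        rw [← pow_mul]; exact Nat.pow_le_pow_right (by omega) (by omega)
  have hsum : ∑ a : {a : A // a ≠ 1}, Nat.card (fixSub ((a : A) : AutGp V)) ^ 3 ≤
      Nat.card C * q ^ (3 * n - 3) + Nat.card A * q ^ (3 * n - 4) := by
    rw [← Finset.sum_filter_add_sum_filter_not Finset.univ
      (fun a : {a : A // a ≠ 1} => ((a : A) : AutGp V) ∈ C)]
    refine Nat.add_le_add ?_ ?_
    · refine (Finset.sum_le_card_nsmul _ _ (q ^ (3 * n - 3)) fun a ha => ?_).trans ?_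
      · refine (Nat.pow_le_pow_left (hfixC a (Finset.mem_filter.1 ha).2) 3).trans ?_
        rw [← pow_mul]
        exact Nat.pow_le_pow_right (by omega) (by omega)
      · refine Nat.mul_le_mul_right _ ?_
        rw [← Fintype.card_subtype, ← Nat.card_eq_fintype_card]
        exact Nat.card_le_card_of_injective (fun a => (⟨_, a.2⟩ : C)) fun a b hab =>
          Subtype.ext (Subtype.ext (Subtype.ext (congrArg (fun c : C => (c : AutGp V)) hab)))
    · refine (Finset.sum_le_card_nsmul _ _ (q ^ (3 * n - 4)) fun a ha =>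
        hfixA a (Finset.mem_filter.1 ha).2).trans ?_
      refine Nat.mul_le_mul_right _ ((Finset.card_filter_le _ _).trans ?_)
      rw [Finset.card_univ, ← Nat.card_eq_fintype_card]
      exact Nat.card_le_card_of_injective _ Subtype.val_injective
  have hcube : ∀ m : ℕ, m * (m * m) = m ^ 3 := fun m => by ring
  simp only [hcube] at hle
  have h5 : (q ^ n) ^ 3 = q * (q * q ^ (3 * n - 2)) := by
    rw [← pow_mul, ← pow_succ', ← pow_succ']; congr 1; omega
  have h6 : q ^ (3 * n - 2) = q * q ^ (3 * n - 3) := by rw [← pow_succ']; congr 1; omega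
  have h7 : q ^ (3 * n - 3) = q * q ^ (3 * n - 4) := by rw [← pow_succ']; congr 1; omega
  have hpos : 0 < q ^ (3 * n - 4) := pow_pos (by omega) _
  have h8 : (q ^ n) ^ 3 ≤ 24 * q * q ^ (3 * n - 3) + 24 * q ^ 2 * q ^ (3 * n - 4) :=
    (hle.trans hsum).trans (Nat.add_le_add
      (Nat.mul_le_mul_right _ (hC.trans (Nat.mul_le_mul_left _ (Nat.sub_le _ _))))
      (Nat.mul_le_mul_right _ (hA.trans
        (Nat.mul_le_mul_left _ (Nat.pow_le_pow_left (Nat.sub_le _ _) 2)))))
  rw [h5, h6, h7] at h8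
  have h9 : 81 * (q * q * q ^ (3 * n - 4)) ≤ q * q * (q * q * q ^ (3 * n - 4)) :=
    Nat.mul_le_mul_right _ (by nlinarith)
  have h10 : 0 < q * q * q ^ (3 * n - 4) := Nat.mul_pos (Nat.mul_pos (by omega) (by omega)) hpos
  nlinarith

end CfsgLib.BaseThree
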