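import Cfsg.Agent.RegOrbit.Extension
import Mathlib.RingTheory.IntegralDomain
import Mathlib.Data.Nat.Choose.Dvd
import Mathlib.Tactic

/-!
# Maximal totally singular subgroups of a group of symplectic type
-/

set_option autoImplicit false
set_option linter.style.haveILetI false

namespace CfsgLib.BaseThree

open CfsgLib.RegOrbit
open scoped commutatorElement

variable {G : Type*} [Group G] [Finite G] {F : Type*} [Field F] {A Z E : Subgroup G}

omit [Finite G] in
theorem normal_subgroupOf_of_le (h : SympData A Z E) {Y : Subgroup G} (hZY : Z ≤ Y) :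
    (Y.subgroupOf E).Normal := by
  refine ⟨fun y hy u => Subgroup.mem_subgroupOf.2 ?_⟩
  have h1 : ⁅(u : G), (y : G)⁆ ∈ Y := hZY (h.comm u u.2 y y.2)
  have h2 := Y.mul_mem h1 (Subgroup.mem_subgroupOf.1 hy)
  rwa [commutatorElement_def, inv_mul_cancel_right] at h2

/-- An element commuting with all that commutes with `Y` lies in `Y`. -/
theorem perp_perp (h : SympData A Z E) {ι : Z →* Fˣ} (hι : Function.Injective ι) {Y : Subgroup G}
    (hZY : Z ≤ Y) (hYE : Y ≤ E) {u : G} (hu : u ∈ E)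
    (hcomm : ∀ x ∈ E ⊓ Subgroup.centralizer (Y : Set G), x * u = u * x) : u ∈ Y := by
  set P := E ⊓ Subgroup.centralizer (Y : Set G) with hP
  set Q := E ⊓ Subgroup.centralizer (P : Set G) with hQ
  have hYQ : Y ≤ Q := le_inf hYE fun y hy => Subgroup.mem_centralizer_iff.2 fun x hx =>
    (Subgroup.mem_centralizer_iff.1 hx.2 y hy).symm
  -- the centralizer of a subgroup
  have h1 : ∀ T : Subgroup G, Z ≤ T → T ≤ E →
      (E ⊓ Subgroup.centralizer (T : Set G)).relIndex E ≤ Z.relIndex T := by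
    intro T hZT hTE
    let f : E →* (T.subgroupOf E) →* Fˣ :=
      MonoidHom.mk' (fun a => (h.pairing ι a).comp (T.subgroupOf E).subtype) fun a b =>
        MonoidHom.ext fun y => by
          show h.pairing ι (a * b) y = h.pairing ι a y * h.pairing ι b y
          rw [map_mul (h.pairing ι) a b]; rfl
    have hf : f.ker = (E ⊓ Subgroup.centralizer (T : Set G)).subgroupOf E := by
      ext a
      rw [MonoidHom.mem_ker, Subgroup.mem_subgroupOf, MonoidHom.ext_iff]
      refine ⟨fun ha => ⟨a.2, Subgroup.mem_centralizer_iff.2 fun x hx =>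
        ((h.pairing_eq_one hι a ⟨x, hTE hx⟩).1 (ha ⟨⟨x, hTE hx⟩, hx⟩)).symm⟩,
        fun ha y => (h.pairing_eq_one hι a y.1).2
          (Subgroup.mem_centralizer_iff.1 ha.2 _ y.2).symm⟩
    haveI := h.normal
    let N : Subgroup (T.subgroupOf E) := (Z.subgroupOf E).subgroupOf (T.subgroupOf E)
    haveI : N.Normal := ⟨fun z hz u => (inferInstance : (Z.subgroupOf E).Normal).conj_mem _ hz u⟩
    have := FpfModule.index_ker_le f N fun a z hz => by
      rw [MonoidHom.mem_ker]
      exact (h.pairing_eq_one hι a z.1).2 (h.centralE hz a.2)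
    rw [hf] at this
    refine this.trans (le_of_eq ?_)
    rw [show N.index = (Z.subgroupOf E).relIndex (T.subgroupOf E) from rfl,
      Subgroup.relIndex_subgroupOf hTE]
  have h2 : ∀ T : Subgroup G, Z ≤ T → T ≤ E →
      Z.relIndex (E ⊓ Subgroup.centralizer (T : Set G)) ≤ T.relIndex E := by
    intro T hZT hTE
    set R := E ⊓ Subgroup.centralizer (T : Set G) with hR
    haveI := normal_subgroupOf_of_le h hZT
    let f : R →* E →* Fˣ := (h.pairing ι).comp (Subgroup.inclusion inf_le_left)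
    have hf : f.ker = Z.subgroupOf R := by
      ext a
      rw [MonoidHom.mem_ker, Subgroup.mem_subgroupOf]
      show h.pairing ι (Subgroup.inclusion inf_le_left a) = 1 ↔ _
      rw [← MonoidHom.mem_ker, h.ker_pairing hι, Subgroup.mem_subgroupOf]
      rfl
    have := FpfModule.index_ker_le f (T.subgroupOf E) fun a x hx => by
      rw [MonoidHom.mem_ker]
      exact (h.pairing_eq_one hι (Subgroup.inclusion inf_le_left a) x).2
        (Subgroup.mem_centralizer_iff.1 a.2.2 _ hx).symm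
    rwa [hf] at this
  have hZP : Z ≤ P := le_inf h.le fun z hz =>
    Subgroup.mem_centralizer_iff.2 fun x hx => h.centralE hz (hYE hx)
  have h3 : Z.relIndex Q ≤ Z.relIndex Y := (h2 P hZP inf_le_left).trans (h1 Y hZY hYE)
  have h4 : Q = Y := (Subgroup.eq_of_le_of_card_ge hYQ (by
    rw [← card_mul_relIndex' (hZY.trans hYQ), ← card_mul_relIndex' hZY]
    exact Nat.mul_le_mul_left _ h3)).symm
  rw [← h4]
  exact ⟨hu, Subgroup.mem_centralizer_iff.2 hcomm⟩

/-- Powers of a product in class two. -/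
theorem mul_pow_of_central {H : Type*} [Group H] {x y c : H} (hxy : y * x = x * y * c)
    (hcx : Commute c x) (hcy : Commute c y) (n : ℕ) :
    (x * y) ^ n = x ^ n * y ^ n * c ^ n.choose 2 := by
  induction n with
  | zero => simp
  | succ n ih =>
    have h1 : ∀ k, y ^ k * x = x * y ^ k * c ^ k := by
      intro k
      induction k with
      | zero => simp
      | succ k ihk =>
        calc y ^ (k + 1) * x = y ^ k * (y * x) := by rw [pow_succ, mul_assoc]
          _ = (y ^ k * x) * (y * c) := by rw [hxy]; group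
          _ = x * y ^ k * (c ^ k * y) * c := by rw [ihk]; group
          _ = x * y ^ (k + 1) * c ^ (k + 1) := by rw [(hcy.pow_left k).eq]; group
    rw [pow_succ, ih, Nat.choose_succ_succ', Nat.choose_one_right, pow_add c]
    calc x ^ n * y ^ n * c ^ n.choose 2 * (x * y)
        = x ^ n * y ^ n * (c ^ n.choose 2 * (x * y)) := by group
      _ = x ^ n * (y ^ n * x) * y * c ^ n.choose 2 := by
          rw [((hcx.pow_left _).mul_right (hcy.pow_left _)).eq]; group
      _ = x ^ n * x * y ^ n * (c ^ n * y) * c ^ n.choose 2 := by rw [h1]; group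
      _ = x ^ (n + 1) * y ^ (n + 1) * (c ^ n * c ^ n.choose 2) := by
          rw [(hcy.pow_left n).eq]; group

/-- The data of a maximal totally singular subgroup. -/
structure Singular (h : SympData A Z E) (L : Subgroup G) : Prop where
  le : L ≤ E
  comm : ∀ x ∈ L, ∀ y ∈ L, x * y = y * x
  inf : L ⊓ Z = ⊥
  max : ∀ L' ≤ E, (∀ x ∈ L', ∀ y ∈ L', x * y = y * x) → L' ⊓ Z = ⊥ → L ≤ L' → L' ≤ L

theorem exists_singular (h : SympData A Z E) : ∃ L, Singular h L := by
  obtain ⟨L, ⟨h1, h2, h3⟩, hmax⟩ := Set.Finite.exists_maximalFor id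
    {L : Subgroup G | L ≤ E ∧ (∀ x ∈ L, ∀ y ∈ L, x * y = y * x) ∧ L ⊓ Z = ⊥} (Set.toFinite _)
    ⟨⊥, bot_le, fun x hx y _ => by rw [Subgroup.mem_bot.1 hx, one_mul, mul_one], bot_inf_eq _⟩
  exact ⟨L, h1, h2, h3, fun L' a b c hLL' => hmax ⟨a, b, c⟩ hLL'⟩

variable {h : SympData A Z E} {L : Subgroup G}

/-- An element commuting with `L` and generating with it no central element lies in `L`. -/
theorem Singular.mem (hL : Singular h L) {u : G} (hu : u ∈ E)
    (hcomm : ∀ l ∈ L, l * u = u * l)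
    (hinf : ∀ l ∈ L, ∀ i : ℤ, l * u ^ i ∈ Z → l * u ^ i = 1) : u ∈ L := by
  have hn : L ≤ Subgroup.normalizer ((Subgroup.zpowers u : Subgroup G) : Set G) := by
    intro l hl
    rw [Subgroup.mem_normalizer_iff]
    intro x
    have h1 : ∀ i : ℤ, l * u ^ i * l⁻¹ = u ^ i := fun i => by
      rw [((show Commute l u from hcomm l hl).zpow_right i).eq, mul_inv_cancel_right]
    refine ⟨fun hx => ?_, fun hx => ?_⟩
    · obtain ⟨i, rfl⟩ := hx; exact ⟨i, (h1 i).symm⟩
    · obtain ⟨i, hi⟩ := hx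
      refine ⟨i, ?_⟩
      have h2 : l * u ^ i * l⁻¹ = l * x * l⁻¹ := (h1 i).trans hi
      simpa using h2
  have hmem : ∀ x ∈ L ⊔ Subgroup.zpowers u, ∃ l ∈ L, ∃ i : ℤ, x = l * u ^ i := fun x hx => by
    rw [← SetLike.mem_coe, Subgroup.coe_mul_of_left_le_normalizer_right L _ hn] at hx
    obtain ⟨l, hl, _, ⟨i, rfl⟩, rfl⟩ := hx
    exact ⟨l, hl, i, rfl⟩
  refine hL.max (L ⊔ Subgroup.zpowers u) (sup_le hL.le (Subgroup.zpowers_le.2 hu)) ?_ ?_ le_sup_left
    (Subgroup.mem_sup_right (Subgroup.mem_zpowers u))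
  · intro x hx y hy
    obtain ⟨l, hl, i, rfl⟩ := hmem x hx
    obtain ⟨l', hl', k, rfl⟩ := hmem y hy
    have c1 : Commute l l' := hL.comm l hl l' hl'
    have c2 : Commute l u := hcomm l hl
    have c3 : Commute l' u := hcomm l' hl'
    exact ((c1.mul_right (c2.zpow_right k)).mul_left
      ((c3.symm.zpow_left i).mul_right ((Commute.refl u).zpow_zpow i k))).eq
  · refine (Subgroup.eq_bot_iff_forall _).2 fun x hx => ?_
    obtain ⟨l, hl, i, rfl⟩ := hmem x hx.1
    exact hinf l hl i hx.2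

/-- No element outside `L ⊔ Z` commuting with `L` has a prime power equal to a power from `Z`. -/
theorem Singular.core (hL : Singular h L) {w : G} (hw : w ∈ E)
    (hcomm : ∀ l ∈ L, l * w = w * l) {r : ℕ} (hr : r.Prime) {z : G} (hz : z ∈ Z)
    (hpow : w ^ r = z ^ r) : w ∈ L ⊔ Z := by
  set u := w * z⁻¹ with hu
  have hzw : Commute z w := (h.centralE hz hw).symm
  have hur : u ^ r = 1 := by
    rw [hu, hzw.symm.inv_right.mul_pow, hpow, inv_pow, mul_inv_cancel]
  by_contra hne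
  have huL : u ∉ L ⊔ Z := fun h' => hne (by
    have := (L ⊔ Z).mul_mem h' (Subgroup.mem_sup_right hz)
    rwa [hu, inv_mul_cancel_right] at this)
  refine huL (Subgroup.mem_sup_left (hL.mem (E.mul_mem hw (E.inv_mem (h.le hz))) (fun l hl => ?_) ?_))
  · have c1 : Commute l w := hcomm l hl
    have c2 : Commute l z := h.centralE hz (hL.le hl)
    exact (c1.mul_right c2.inv_right).eq
  · intro l hl i hi
    by_cases hdvd : (r : ℤ) ∣ i
    · obtain ⟨k, rfl⟩ := hdvd
      rw [zpow_mul, zpow_natCast, hur, one_zpow, mul_one] at hi ⊢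
      have : l ∈ L ⊓ Z := ⟨hl, hi⟩
      rwa [hL.inf, Subgroup.mem_bot] at this
    · exfalso
      have h1 : u ^ i ∈ L ⊔ Z := by
        have := (L ⊔ Z).mul_mem (Subgroup.mem_sup_left ((L.inv_mem hl)) : l⁻¹ ∈ L ⊔ Z)
          (Subgroup.mem_sup_right hi : l * u ^ i ∈ L ⊔ Z)
        rwa [inv_mul_cancel_left] at this
      obtain ⟨a, b, hab⟩ : IsCoprime i (r : ℤ) :=
        ((Nat.prime_iff_prime_int.1 hr).coprime_iff_not_dvd.2 hdvd).symm
      refine huL ?_
      have h2 := (L ⊔ Z).zpow_mem h1 a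
      rwa [← zpow_mul, show i * a = 1 - b * r by linarith, zpow_sub, zpow_one, mul_comm b,
        zpow_mul, zpow_natCast, hur, one_zpow, inv_one, mul_one] at h2

/-- Elements commuting with `L` square into `L ⊔ Z`. -/
theorem Singular.sq_mem (hL : Singular h L) {ι : Z →* Fˣ} (hι : Function.Injective ι)
    (hexp : ∀ u ∈ E, ∀ r : ℕ, r.Prime → u ^ (r * r) ∈ Z → u ^ r ∈ Z) {x : G} (hx : x ∈ E)
    (hcomm : ∀ l ∈ L, l * x = x * l) : x ^ 2 ∈ L ⊔ Z := by
  classical
  haveI := h.normal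
  haveI := normal_subgroupOf_of_le h (le_sup_right : Z ≤ L ⊔ Z)
  haveI : IsCyclic Z :=
    isCyclic_of_subgroup_isDomain ((Units.coeHom F).comp ι) (Units.val_injective.comp hι)
  let xe : E := ⟨x, hx⟩
  set m' := orderOf (xe : E ⧸ Z.subgroupOf E) with hm'
  set m := orderOf (xe : E ⧸ (L ⊔ Z).subgroupOf E) with hm
  have hmemZ : ∀ k : ℕ, x ^ k ∈ Z ↔ m' ∣ k := fun k => by
    rw [hm', orderOf_dvd_iff_pow_eq_one, ← QuotientGroup.mk_pow, QuotientGroup.eq_one_iff,
      Subgroup.mem_subgroupOf]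
    rfl
  have hmemY : ∀ k : ℕ, x ^ k ∈ L ⊔ Z ↔ m ∣ k := fun k => by
    rw [hm, orderOf_dvd_iff_pow_eq_one, ← QuotientGroup.mk_pow, QuotientGroup.eq_one_iff,
      Subgroup.mem_subgroupOf]
    rfl
  have hmm' : m ∣ m' := (hmemY m').1 (Subgroup.mem_sup_right ((hmemZ m').2 dvd_rfl))
  have hm'pos : 0 < m' := orderOf_pos _
  -- prime squares do not divide
  have hsqf : ∀ r : ℕ, r.Prime → ¬ r * r ∣ m' := by
    rintro r hr ⟨k, hk⟩
    have h1 := hexp (x ^ k) (E.pow_mem hx k) r hr (by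
      rw [← pow_mul, mul_comm k, ← hk]; exact (hmemZ m').2 dvd_rfl)
    rw [← pow_mul, hmemZ, hk] at h1
    have hk0 : 0 < k := Nat.pos_of_ne_zero fun h0 => by simp [h0] at hk; omega
    have := Nat.le_of_dvd (Nat.mul_pos hk0 hr.pos) h1
    have h2 : r * r * k = r * (k * r) := by ring
    rw [h2] at this
    have := hr.two_le
    nlinarith
  rw [hmemY]
  -- no odd prime divides `m`
  have hodd : ∀ r : ℕ, r.Prime → r ∣ m → r = 2 := by
    intro r hr hrm
    by_contra hr2
    obtain ⟨j, hj⟩ := hrm.trans hmm'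
    set u := x ^ j with hu
    have huE : u ∈ E := E.pow_mem hx j
    have hur : u ^ r ∈ Z := by rw [hu, ← pow_mul, mul_comm, ← hj]; exact (hmemZ m').2 dvd_rfl
    have huY : u ∉ L ⊔ Z := fun h' => hsqf r hr (by
      obtain ⟨i, hi⟩ := hrm.trans ((hmemY j).1 h')
      exact ⟨i, by rw [hj, hi]; ring⟩)
    have huL : ∀ l ∈ L, l * u = u * l := fun l hl =>
      ((show Commute l x from hcomm l hl).pow_right j).eq
    obtain ⟨v, hvE, hvL, hne⟩ : ∃ v ∈ E, (∀ l ∈ L, l * v = v * l) ∧ v * u ≠ u * v := by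
      by_contra hno
      push Not at hno
      refine huY (perp_perp h hι le_sup_right (sup_le hL.le h.le) huE fun y hy => ?_)
      exact hno y hy.1 fun l hl => Subgroup.mem_centralizer_iff.1 hy.2 l (Subgroup.mem_sup_left hl)
    let ue : E := ⟨u, huE⟩
    let ve : E := ⟨v, hvE⟩
    set ω := h.pairing ι ue ve with hω
    have hω1 : ω ≠ 1 := fun h' => hne ((h.pairing_eq_one hι ue ve).1 h').symm
    have hpz : ∀ (y : E) (k : ℕ) (y' : E), (y : G) ^ k ∈ Z →
        h.pairing ι y y' ^ k = 1 ∧ h.pairing ι y' y ^ k = 1 := fun y k y' hy => by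
      refine ⟨?_, ?_⟩
      · rw [← MonoidHom.pow_apply, ← map_pow]
        exact (h.pairing_eq_one hι (y ^ k) y').2 (by
          push_cast; exact (h.centralE hy y'.2).symm)
      · rw [← map_pow]
        exact (h.pairing_eq_one hι y' (y ^ k)).2 (by push_cast; exact h.centralE hy y'.2)
    have hωr : orderOf ω = r := by
      haveI := Fact.mk hr
      exact orderOf_eq_prime (hpz ue r ve hur).1 hω1
    set mv := orderOf (ve : E ⧸ Z.subgroupOf E) with hmv
    have hvZ : v ^ mv ∈ Z := by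
      have := pow_orderOf_eq_one (ve : E ⧸ Z.subgroupOf E)
      rw [← QuotientGroup.mk_pow, QuotientGroup.eq_one_iff, Subgroup.mem_subgroupOf] at this
      exact this
    obtain ⟨i, hi⟩ : r ∣ mv := hωr ▸ orderOf_dvd_of_pow_eq_one (hpz ve mv ue hvZ).2
    have hri : ¬ r ∣ i := by
      rintro ⟨i', rfl⟩
      have hmvpos : 0 < mv := orderOf_pos _
      have h1 := hexp (v ^ i') (E.pow_mem hvE i') r hr (by
        rw [← pow_mul, show i' * (r * r) = mv by rw [hi]; ring]; exact hvZ)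
      have h2 : mv ∣ i' * r := by
        rw [hmv, orderOf_dvd_iff_pow_eq_one, ← QuotientGroup.mk_pow, QuotientGroup.eq_one_iff,
          Subgroup.mem_subgroupOf]
        push_cast
        rw [pow_mul]; exact h1
      have h3 : 0 < i' := Nat.pos_of_ne_zero fun h0 => by simp [h0] at hi; omega
      have := Nat.le_of_dvd (Nat.mul_pos h3 hr.pos) h2
      rw [hi] at this
      have := hr.two_le
      have h4 : r * (r * i') = r * (i' * r) := by ring
      rw [h4] at *
      nlinarith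
    set v' := v ^ i with hv'
    let ve' : E := ⟨v', E.pow_mem hvE i⟩
    have hω' : h.pairing ι ue ve' ≠ 1 := by
      intro h'
      have h1 : ω ^ i = 1 := by
        rw [hω, ← map_pow]
        exact (congrArg (h.pairing ι ue) (Subtype.ext (by rfl) : ve ^ i = ve')).trans h'
      exact hri (hωr ▸ orderOf_dvd_of_pow_eq_one h1)
    have hv'r : v' ^ r ∈ Z := by rw [hv', ← pow_mul, mul_comm, ← hi]; exact hvZ
    have hv'L : ∀ l ∈ L, l * v' = v' * l := fun l hl =>
      ((show Commute l v from hvL l hl).pow_right i).eq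
    obtain ⟨ζ, hζ⟩ := IsCyclic.exists_generator (α := Z)
    obtain ⟨a, ha⟩ := hζ ⟨u ^ r, hur⟩
    obtain ⟨b, hb⟩ := hζ ⟨v' ^ r, hv'r⟩
    have ha' : (ζ : G) ^ a = u ^ r := congrArg Subtype.val ha
    have hb' : (ζ : G) ^ b = v' ^ r := congrArg Subtype.val hb
    by_cases hra : (r : ℤ) ∣ a
    · obtain ⟨k, hk⟩ := hra
      refine huY (hL.core huE huL hr (Z.zpow_mem ζ.2 k) ?_)
      rw [← ha', hk, mul_comm, zpow_mul, zpow_natCast]
    · obtain ⟨c, d, hcd⟩ : IsCoprime a (r : ℤ) :=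
        ((Nat.prime_iff_prime_int.1 hr).coprime_iff_not_dvd.2 hra).symm
      -- `v' * u ^ (-(b * c))` has its `r`th power among the `r`th powers
      set n : ℕ := (-(b * c) % (r : ℤ)).toNat with hn
      have hr0 : (r : ℤ) ≠ 0 := by exact_mod_cast hr.ne_zero
      have hncast : (n : ℤ) = -(b * c) % (r : ℤ) := Int.toNat_of_nonneg (Int.emod_nonneg _ hr0)
      have hkey : (r : ℤ) ∣ b + a * n := by
        have h1 : (r : ℤ) ∣ (n : ℤ) + b * c := by
          rw [hncast, Int.emod_def]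
          exact ⟨-(-(b * c) / (r : ℤ)), by ring⟩
        obtain ⟨k, hk⟩ := h1
        refine ⟨b * d + a * k, ?_⟩
        linear_combination (-b) * hcd + a * hk
      obtain ⟨k, hk⟩ := hkey
      set w := v' * u ^ n with hw
      have hwE : w ∈ E := E.mul_mem (E.pow_mem hvE i) (E.pow_mem huE n)
      have hwL : ∀ l ∈ L, l * w = w * l := fun l hl =>
        ((show Commute l v' from hv'L l hl).mul_right
          ((show Commute l u from huL l hl).pow_right n)).eq
      have hwu : h.pairing ι ue ⟨w, hwE⟩ ≠ 1 := by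
        rw [show (⟨w, hwE⟩ : E) = ve' * ue ^ n from rfl, map_mul, map_pow,
          show h.pairing ι ue ue = 1 from (h.pairing_eq_one hι ue ue).2 rfl, one_pow, mul_one]
        exact hω'
      set cc := ⁅(u ^ n)⁻¹, v'⁻¹⁆ with hcc
      have hccZ : cc ∈ Z := h.comm _ (E.inv_mem (E.pow_mem huE n)) _ (E.inv_mem (E.pow_mem hvE i))
      have hccr : cc ^ r = 1 := by
        have h1 : (ι ⟨cc, hccZ⟩) ^ r = 1 := (hpz ve'⁻¹ r (ue ^ n)⁻¹ (by
          push_cast; rw [inv_pow]; exact Z.inv_mem hv'r)).2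
        have h2 : (⟨cc, hccZ⟩ : Z) ^ r = 1 := hι (by rw [map_pow, map_one, h1])
        exact congrArg Subtype.val h2
      have hwr : w ^ r = ((ζ : G) ^ k) ^ r := by
        have hyx : u ^ n * v' = v' * u ^ n * cc := by rw [hcc, commutatorElement_def]; group
        rw [hw, mul_pow_of_central hyx ((h.centralE hccZ (E.pow_mem hvE i)).symm)
          ((h.centralE hccZ (E.pow_mem huE n)).symm)]
        obtain ⟨t, ht⟩ := Nat.Prime.dvd_choose_self hr two_ne_zero (by
          have := hr.two_le; omega : 2 < r)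
        rw [ht, pow_mul cc, hccr, one_pow, mul_one,
          show (u ^ n) ^ r = (u ^ r) ^ n from pow_right_comm u n r, ← hb', ← ha',
          ← zpow_natCast ((ζ : G) ^ a), ← zpow_mul, ← zpow_add, hk, mul_comm, zpow_mul, zpow_natCast]
      refine hwu ((h.pairing_eq_one hι ue ⟨w, hwE⟩).2 ?_)
      have hwY := hL.core hwE hwL hr (Z.zpow_mem ζ.2 k) hwr
      exact Subgroup.mem_centralizer_iff.1
        ((sup_le (fun l hl => Subgroup.mem_centralizer_singleton_iff.2 (huL l hl))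
          (fun z hz => Subgroup.mem_centralizer_singleton_iff.2 (h.centralE hz huE).symm) :
          L ⊔ Z ≤ Subgroup.centralizer ({u} : Set G)) hwY) u rfl
  -- so `m` is a power of two, and `4` does not divide it
  have hm2 : ¬ 2 * 2 ∣ m := fun h4 => hsqf 2 Nat.prime_two (h4.trans hmm')
  have hmpos : 0 < m := Nat.pos_of_dvd_of_pos hmm' hm'pos
  obtain ⟨k, hk⟩ : ∃ k, m = 2 ^ k :=
    ⟨_, Nat.eq_prime_pow_of_unique_prime_dvd hmpos.ne' fun hd hd' => hodd _ hd hd'⟩
  rcases k with _ | _ | k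
  · rw [hk, pow_zero]; exact one_dvd _
  · rw [hk, pow_one]
  · exact absurd ⟨2 ^ k, by rw [hk]; ring⟩ hm2

/-- The centralizer of `L` needs two generators over `L ⊔ Z`. -/
theorem Singular.exists_two (hL : Singular h L) {ι : Z →* Fˣ} (hι : Function.Injective ι)
    (hexp : ∀ u ∈ E, ∀ r : ℕ, r.Prime → u ^ (r * r) ∈ Z → u ^ r ∈ Z) :
    ∃ x ∈ E ⊓ Subgroup.centralizer (L : Set G), ∃ y ∈ E ⊓ Subgroup.centralizer (L : Set G),
      E ⊓ Subgroup.centralizer (L : Set G) ≤ L ⊔ Z ⊔ Subgroup.closure {x, y} := by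
  classical
  haveI := h.normal
  haveI : IsCyclic Z :=
    isCyclic_of_subgroup_isDomain ((Units.coeHom F).comp ι) (Units.val_injective.comp hι)
  set M := E ⊓ Subgroup.centralizer (L : Set G) with hM
  have hMcomm : ∀ x ∈ M, ∀ l ∈ L, l * x = x * l := fun x hx l hl =>
    Subgroup.mem_centralizer_iff.1 hx.2 l hl
  -- representatives with square in `Z`
  have hrep : ∀ x ∈ M, ∃ x' ∈ M, x' ^ 2 ∈ Z ∧ x⁻¹ * x' ∈ L ⊔ Z ∧
      ∀ y, y * x = x * y → y * x' = x' * y := by
    intro x hx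
    have h2 := hL.sq_mem hι hexp hx.1 (hMcomm x hx)
    set m' := orderOf (⟨x, hx.1⟩ : E).1 with hm'
    set j := orderOf (((⟨x, hx.1⟩ : E)) : E ⧸ Z.subgroupOf E) with hj
    have hxj : x ^ j ∈ Z := by
      have := pow_orderOf_eq_one (((⟨x, hx.1⟩ : E)) : E ⧸ Z.subgroupOf E)
      rw [← QuotientGroup.mk_pow, QuotientGroup.eq_one_iff, Subgroup.mem_subgroupOf] at this
      exact this
    rcases Nat.even_or_odd' j with ⟨i, hi | hi⟩
    · -- even order: the odd part
      have hiodd : ¬ 2 ∣ i := by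
        rintro ⟨i', rfl⟩
        have hjpos : 0 < j := orderOf_pos _
        have h1 := hexp (x ^ i') (E.pow_mem hx.1 i') 2 Nat.prime_two (by
          rw [← pow_mul, show i' * (2 * 2) = j by rw [hi]; ring]; exact hxj)
        have h3 : j ∣ i' * 2 := by
          rw [hj, orderOf_dvd_iff_pow_eq_one, ← QuotientGroup.mk_pow, QuotientGroup.eq_one_iff,
            Subgroup.mem_subgroupOf]
          push_cast
          rw [pow_mul]; exact h1
        have := Nat.le_of_dvd (by omega) h3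
        omega
      obtain ⟨t, rfl⟩ : Odd i := Nat.not_even_iff_odd.1 fun he => hiodd he.two_dvd
      refine ⟨x ^ (2 * t + 1), M.pow_mem hx _, ?_, ?_, fun y hy =>
        ((show Commute y x from hy).pow_right _).eq⟩
      · rw [← pow_mul, mul_comm, ← hi]; exact hxj
      · rw [pow_succ', inv_mul_cancel_left, pow_mul]
        exact (L ⊔ Z).pow_mem h2 t
    · -- odd order: trivial
      refine ⟨1, M.one_mem, by rw [one_pow]; exact Z.one_mem, ?_, fun y _ => by rw [mul_one, one_mul]⟩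
      rw [mul_one]
      refine (L ⊔ Z).inv_mem ?_
      have h3 : x ^ (2 * i + 1) ∈ L ⊔ Z := hi ▸ Subgroup.mem_sup_right hxj
      rw [pow_succ', pow_mul] at h3
      have := (L ⊔ Z).mul_mem h3 ((L ⊔ Z).inv_mem ((L ⊔ Z).pow_mem h2 i))
      rwa [mul_inv_cancel_right] at this
  -- commuting ones
  have hpair : ∀ x ∈ M, ∀ y ∈ M, x ^ 2 ∈ Z → y ^ 2 ∈ Z → x * y = y * x →
      x ∈ L ⊔ Z ∨ y ∈ L ⊔ Z ∨ x * y ∈ L ⊔ Z := by
    intro x hx y hy hx2 hy2 hxy
    obtain ⟨ζ, hζ⟩ := IsCyclic.exists_generator (α := Z)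
    obtain ⟨a, ha⟩ := hζ ⟨x ^ 2, hx2⟩
    obtain ⟨b, hb⟩ := hζ ⟨y ^ 2, hy2⟩
    have ha' : (ζ : G) ^ a = x ^ 2 := congrArg Subtype.val ha
    have hb' : (ζ : G) ^ b = y ^ 2 := congrArg Subtype.val hb
    have hsq : ∀ w ∈ M, ∀ k : ℤ, (ζ : G) ^ (2 * k) = w ^ 2 → w ∈ L ⊔ Z := fun w hw k hk =>
      hL.core hw.1 (hMcomm w hw) Nat.prime_two (Z.zpow_mem ζ.2 k) (by
        rw [← hk, mul_comm, zpow_mul, zpow_ofNat])
    rcases Int.even_or_odd' a with ⟨k, hk | hk⟩
    · exact Or.inl (hsq x hx k (by rw [← hk, ha']))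
    rcases Int.even_or_odd' b with ⟨l, hl | hl⟩
    · exact Or.inr (Or.inl (hsq y hy l (by rw [← hl, hb'])))
    refine Or.inr (Or.inr (hsq _ (M.mul_mem hx hy) (k + l + 1) ?_))
    rw [(show Commute x y from hxy).mul_pow, ← ha', ← hb', ← zpow_add, hk, hl]
    congr 1; ring
  by_cases hMY : M ≤ L ⊔ Z
  · exact ⟨1, M.one_mem, 1, M.one_mem, hMY.trans le_sup_left⟩
  obtain ⟨x₀, hx₀, hx₀Y⟩ := SetLike.not_le_iff_exists.1 hMY
  obtain ⟨x, hx, hx2, hxx₀, -⟩ := hrep x₀ hx₀
  have hxY : x ∉ L ⊔ Z := fun h' => hx₀Y (by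
    have := (L ⊔ Z).mul_mem h' ((L ⊔ Z).inv_mem hxx₀)
    rwa [mul_inv_rev, inv_inv, mul_inv_cancel_left] at this)
  set T := L ⊔ Z ⊔ Subgroup.closure {x, (1 : G)} with hT
  -- what commutes with `x` is generated by `x`
  have hcen : ∀ y ∈ M, x * y = y * x → y ∈ T := by
    intro y hy hxy
    obtain ⟨y', hy', hy'2, hyy', hc⟩ := hrep y hy
    have hTY : L ⊔ Z ≤ T := le_sup_left
    have hxT : x ∈ T := Subgroup.mem_sup_right (Subgroup.subset_closure (Set.mem_insert _ _))
    have hy'T : y' ∈ T := by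
      rcases hpair x hx y' hy' hx2 hy'2 (hc x hxy) with h1 | h1 | h1
      · exact absurd h1 hxY
      · exact hTY h1
      · have := T.mul_mem (T.inv_mem hxT) (hTY h1)
        rwa [inv_mul_cancel_left] at this
    have := T.mul_mem hy'T (T.inv_mem (hTY hyy'))
    rwa [mul_inv_rev, inv_inv, mul_inv_cancel_left] at this
  by_cases hcomm : ∀ y ∈ M, x * y = y * x
  · exact ⟨x, hx, 1, M.one_mem, fun y hy => hcen y hy (hcomm y hy)⟩
  push Not at hcomm
  obtain ⟨y, hy, hxy⟩ := hcomm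
  refine ⟨x, hx, y, hy, fun w hw => ?_⟩
  set T' := L ⊔ Z ⊔ Subgroup.closure {x, y} with hT'
  have hTT' : T ≤ T' := by
    refine sup_le le_sup_left (Subgroup.closure_le _ |>.2 ?_)
    rintro u (rfl | rfl)
    · exact Subgroup.mem_sup_right (Subgroup.subset_closure (Set.mem_insert _ _))
    · exact T'.one_mem
  by_cases hxw : x * w = w * x
  · exact hTT' (hcen w hw hxw)
  -- two nontrivial signs cancel
  have hval : ∀ u : E, h.pairing ι ⟨x, hx.1⟩ u = 1 ∨ h.pairing ι ⟨x, hx.1⟩ u = -1 := by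
    intro u
    have h1 : h.pairing ι ⟨x, hx.1⟩ u ^ 2 = 1 := by
      rw [← MonoidHom.pow_apply, ← map_pow]
      exact (h.pairing_eq_one hι _ u).2 (by push_cast; exact (h.centralE hx2 u.2).symm)
    rcases sq_eq_one_iff.1 (show ((h.pairing ι ⟨x, hx.1⟩ u : Fˣ) : F) ^ 2 = 1 by
      rw [← Units.val_pow_eq_pow_val, h1, Units.val_one]) with h2 | h2
    · exact Or.inl (Units.ext h2)
    · exact Or.inr (Units.ext h2)
  have hne : ∀ u : G, ∀ hu : u ∈ E, x * u ≠ u * x → h.pairing ι ⟨x, hx.1⟩ ⟨u, hu⟩ = -1 :=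
    fun u hu hxu => (hval ⟨u, hu⟩).resolve_left fun h1 => hxu ((h.pairing_eq_one hι _ _).1 h1)
  have h1 : h.pairing ι ⟨x, hx.1⟩ (⟨w, hw.1⟩ * (⟨y, hy.1⟩ : E)⁻¹) = 1 := by
    rw [map_mul, map_inv, hne w hw.1 hxw, hne y hy.1 hxy, mul_inv_cancel]
  have h2 := hTT' (hcen (w * y⁻¹) (M.mul_mem hw (M.inv_mem hy)) ((h.pairing_eq_one hι _ _).1 h1))
  have h3 : y ∈ T' := Subgroup.mem_sup_right (Subgroup.subset_closure (by simp))
  have := T'.mul_mem h2 h3
  rwa [inv_mul_cancel_right] at this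

end CfsgLib.BaseThree
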